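import Cfsg.Agent.Lib.ExtremelyClosed.Odd.NotConj
import Cfsg.Agent.Lib.CharInt.Galois

/-!
# All nonidentity elements of `H` conjugate: contradiction

The constancy on `R_g a` bounds `Re χ(z)` from below on `R_g`; averaged over `g` this gives
`m χ(a) ≤ χ(1)` for the nontrivial characters of the principal block, `m = |H| - 1 ≥ 2`.
-/

set_option linter.style.haveILetI false
set_option linter.unusedSectionVars false

namespace Cfsg.Agent.ExtremelyClosedP

open Cfsg Subgroup
open Cfsg.Agent.ExtremelyClosed (pair le_pair bl mem_bl triv_mem_bl sumH sumH_trivial)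
open scoped ComplexConjugate Classical Pointwise

universe u

variable {G : Type u} [Group G] [Finite G] {H : Subgroup G} {p : ℕ} [hpp : Fact p.Prime]

/-- A character constant on `a R`, `R ⊴ L ∋ a`, satisfies `2 Re χ(a) ≤ χ(1) + Re χ(r)` on `R`. -/
theorem two_mul_re_le (χ : IrrCharacter G) {L R : Subgroup G} (hRL : R ≤ L)
    (hLR : L ≤ normalizer (R : Set G)) {a : G} (ha : a ∈ L)
    (hconst : ∀ r ∈ R, χ.1 (a * r) = χ.1 a) {r : G} (hr : r ∈ R) :
    2 * (χ.1 a).re ≤ (Char.degree χ : ℝ) + (χ.1 r).re := by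
  haveI := Fintype.ofFinite L
  set R' : Subgroup L := R.subgroupOf L
  haveI : R'.Normal := Coprime.normal_subgroupOf_of_le_normalizer hLR
  haveI := Fintype.ofFinite R'
  obtain ⟨m, hm, -⟩ := Char.IsCharacter.exists_decomp
    (Char.IsCharacter.restrict (Char.irr_isCharacter χ) L)
  have hval : ∀ x : L, χ.1 x = ∑ ψ, (m ψ : ℂ) * ψ.1 x := fun x => by
    have := congrFun hm x
    simpa [Finset.sum_apply] using this
  set P := Finset.univ.filter fun ψ : IrrCharacter L => Char.TrivOn R' ψ.1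
  set Q := Finset.univ.filter fun ψ : IrrCharacter L => ¬ Char.TrivOn R' ψ.1
  let a' : L := ⟨a, ha⟩
  have hA : χ.1 a = ∑ ψ ∈ P, (m ψ : ℂ) * ψ.1 a' := by
    have h1 : ∑ k : R', χ.1 ((a' * k : L) : G) = (Fintype.card R' : ℂ) * χ.1 a := by
      refine (Finset.sum_congr rfl (g := fun _ => χ.1 a) fun (k : R') _ =>
        hconst ((k : L) : G) k.2).trans ?_
      rw [Finset.sum_const, Finset.card_univ, nsmul_eq_mul]
    rw [Finset.sum_congr rfl fun (k : R') _ => hval (a' * k), Finset.sum_comm,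
      ← Finset.sum_filter_add_sum_filter_not Finset.univ fun ψ => Char.TrivOn R' ψ.1] at h1
    rw [Finset.sum_eq_zero (s := Q) fun ψ hψ => by
        rw [← Finset.mul_sum, Char.sum_coset_eq_zero_of_not_trivOn R' ψ (Finset.mem_filter.1 hψ).2,
          mul_zero], add_zero,
      Finset.sum_congr rfl (g := fun ψ : IrrCharacter L =>
        (Fintype.card R' : ℂ) * ((m ψ : ℂ) * ψ.1 a')) fun ψ hψ => by
          rw [← Finset.mul_sum, Finset.sum_congr rfl (g := fun _ => ψ.1 a') fun (k : R') _ =>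
            Char.apply_mul_of_trivOn (Finset.mem_filter.1 hψ).2 a' k.2, Finset.sum_const,
            Finset.card_univ, nsmul_eq_mul]
          ring,
      ← Finset.mul_sum] at h1
    exact (mul_left_cancel₀ (Nat.cast_ne_zero.2 Fintype.card_ne_zero) h1).symm
  have hre : ∀ (ψ : IrrCharacter L) (x : L), |(ψ.1 x).re| ≤ (Char.degree ψ : ℝ) := fun ψ x => by
    refine (Complex.abs_re_le_norm _).trans ((CharInt.norm_char_le (Char.irr_isCharacter ψ) x).trans ?_)
    rw [Char.apply_one_eq_degree, Complex.norm_natCast]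
  let r' : L := ⟨r, hRL hr⟩
  have hR : χ.1 r = ∑ ψ ∈ P, (m ψ : ℂ) * ψ.1 r' + ∑ ψ ∈ Q, (m ψ : ℂ) * ψ.1 r' := by
    rw [Finset.sum_filter_add_sum_filter_not]; exact hval r'
  have hN : (Char.degree χ : ℝ) =
      ∑ ψ ∈ P, (m ψ : ℝ) * Char.degree ψ + ∑ ψ ∈ Q, (m ψ : ℝ) * Char.degree ψ := by
    rw [Finset.sum_filter_add_sum_filter_not]
    apply Complex.ofReal_injective
    push_cast
    rw [← Char.apply_one_eq_degree]
    refine (hval 1).trans (Finset.sum_congr rfl fun ψ _ => ?_)
    rw [Char.apply_one_eq_degree]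
  rw [hA, hR, Complex.add_re, Complex.re_sum, Complex.re_sum, Complex.re_sum, hN]
  simp only [Complex.mul_re, Complex.natCast_re, Complex.natCast_im, zero_mul, sub_zero]
  have e1 : ∑ ψ ∈ P, (m ψ : ℝ) * (ψ.1 a').re ≤ ∑ ψ ∈ P, (m ψ : ℝ) * Char.degree ψ :=
    Finset.sum_le_sum fun ψ _ => mul_le_mul_of_nonneg_left
      ((le_abs_self _).trans (hre ψ a')) (Nat.cast_nonneg _)
  have e2 : ∑ ψ ∈ P, (m ψ : ℝ) * (ψ.1 r').re = ∑ ψ ∈ P, (m ψ : ℝ) * Char.degree ψ :=
    Finset.sum_congr rfl fun ψ hψ => by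
      have h := (Finset.mem_filter.1 hψ).2 r' hr
      rw [h, Char.apply_one_eq_degree, Complex.natCast_re]
  have e3 : ∑ ψ ∈ Q, -((m ψ : ℝ) * Char.degree ψ) ≤ ∑ ψ ∈ Q, (m ψ : ℝ) * (ψ.1 r').re :=
    Finset.sum_le_sum fun ψ _ => by
      rw [← mul_neg]
      exact mul_le_mul_of_nonneg_left ((neg_le_neg (hre ψ r')).trans (neg_abs_le _))
        (Nat.cast_nonneg _)
  rw [Finset.sum_neg_distrib] at e3
  linarith

namespace MinCfg

variable (c : MinCfg p H) [Fintype H] {M : Ideal AlgInt} (hM : IsPModular p M)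
include c hM

/-- `m χ(a) ≤ χ(1)` for a nontrivial character of the principal block. -/
theorem value_bound {χ : IrrCharacter G} (hχ : χ ∈ bl M G) {C : ℤ}
    (hC : ∀ b ∈ H, b ≠ 1 → χ.1 b = (C : ℂ)) (htriv : χ ≠ Char.trivialChar G) :
    ((Nat.card H : ℝ) - 1) * C ≤ (Char.degree χ : ℝ) := by
  haveI := Fintype.ofFinite G
  obtain ⟨a, ha, ha1⟩ := (Subgroup.bot_or_exists_ne_one H).resolve_left c.ne_bot
  set n : ℝ := (Char.degree χ : ℝ) with hn
  have hn1 : (1 : ℝ) ≤ n := by rw [hn]; exact_mod_cast Char.degree_pos χ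
  have hlow : ∀ g, ∀ r ∈ pc p (pair H g), 2 * (C : ℝ) ≤ n + (χ.1 r).re := fun g r hr => by
    have h := two_mul_re_le χ (L := H ⊔ pc p (pair H g)) (R := pc p (pair H g)) le_sup_right
      (sup_le (c.le_normalizer_pc_pair g) Subgroup.le_normalizer) (mem_sup_left ha) (fun r hr => by
        have hr' : a * r * a⁻¹ ∈ pc p (pair H g) :=
          (mem_normalizer_iff.1 (c.le_normalizer_pc_pair g ha) r).1 hr
        have := c.const hM (mem_bl.mp hχ) ha ha1 hr'
        rwa [inv_mul_cancel_right] at this) hr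
    rwa [hC a ha ha1, Complex.intCast_re] at h
  have hCn : (C : ℝ) ≤ n := by
    have := hlow 1 1 (one_mem _)
    rw [Char.apply_one_eq_degree, Complex.natCast_re] at this
    linarith
  set m : ℝ := (Nat.card H : ℝ) - 1 with hm
  have hS : sumH H χ = ((n + m * (C : ℝ) : ℝ) : ℂ) := by
    have h1 : 1 ≤ Nat.card H := Nat.card_pos
    rw [sumH, ← Finset.add_sum_erase Finset.univ _ (Finset.mem_univ (1 : H)),
      Finset.sum_congr rfl (g := fun _ => (C : ℂ)) (fun (d : H) hd => hC (d : G) d.2 fun h =>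
        (Finset.mem_erase.mp hd).1 (Subtype.ext h)),
      Finset.sum_const, Finset.card_erase_of_mem (Finset.mem_univ _), Finset.card_univ,
      ← Nat.card_eq_fintype_card, nsmul_eq_mul, Nat.cast_sub h1,
      OneMemClass.coe_one, Char.apply_one_eq_degree, hm, hn]
    push_cast
    ring
  have havg := c.average hM hχ ha
  rw [hC a ha ha1, hS, Char.apply_one_eq_degree] at havg
  have hsum := congrArg Complex.re havg
  simp only [Complex.mul_re, Complex.natCast_re, Complex.natCast_im, Complex.intCast_re,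
    Complex.intCast_im, Complex.ofReal_re, Complex.ofReal_im, zero_mul, mul_zero, sub_zero,
    Complex.add_re, Complex.sub_re, Complex.re_sum, Complex.mul_im, add_zero] at hsum
  have hZ : ∑ _g : G, (2 * (C : ℝ) - n) ≤
      ∑ g : G, (χ.1 (g * a * g⁻¹ * (c.nel g * a * (c.nel g)⁻¹)⁻¹)).re :=
    Finset.sum_le_sum fun g _ => by linarith [hlow g _ (c.conj_mul_nel_mem g ha)]
  rw [Finset.sum_const, Finset.card_univ, nsmul_eq_mul, ← Nat.card_eq_fintype_card] at hZ
  have hG : (0 : ℝ) < (Nat.card G : ℝ) := by exact_mod_cast Nat.card_pos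
  have hkey : 0 ≤ (n - C) * (n - m * C) := by
    nlinarith [mul_le_mul_of_nonneg_left hZ (by linarith : (0 : ℝ) ≤ n)]
  by_contra hcon
  push Not at hcon
  rcases eq_or_lt_of_le hCn with h | h
  · refine htriv (c.trivial_of_le_kernel fun x hx => ?_)
    by_cases hx1 : x = 1
    · rw [hx1]
    · have h' : C = ((Char.degree χ : ℕ) : ℤ) := by exact_mod_cast (h.trans hn)
      rw [hC x hx hx1, Char.apply_one_eq_degree, h', Int.cast_natCast]
  · nlinarith

/-- All nonidentity elements conjugate: contradiction. -/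
theorem false_of_forall_isConj (hp2 : p ≠ 2)
    (hall : ∀ a ∈ H, a ≠ 1 → ∀ b ∈ H, b ≠ 1 → IsConj a b) : False := by
  haveI := hM.2.1
  obtain ⟨a, ha, ha1⟩ := (Subgroup.bot_or_exists_ne_one H).resolve_left c.ne_bot
  have hint : ∀ χ : IrrCharacter G, ∃ z : ℤ, χ.1 a = (z : ℂ) := fun χ => by
    have hc := Char.irr_isCharacter χ
    obtain ⟨q, hq⟩ := CharInt.exists_rat_of_forall_pow hc a fun k hk => by
      refine (CharInt.char_eq_of_isConj hc (hall a ha ha1 (a ^ k) (pow_mem ha k) fun h => ha1 ?_).symm)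
      exact orderOf_eq_one_iff.1 (Nat.eq_one_of_dvd_coprimes hk
        (orderOf_dvd_of_pow_eq_one h) dvd_rfl)
    have hint : IsIntegral ℤ q := by
      have h1 := CharInt.isIntegral_char hc a
      rw [hq, ← eq_ratCast (algebraMap ℚ ℂ)] at h1
      exact (isIntegral_algebraMap_iff (algebraMap ℚ ℂ).injective).1 h1
    obtain ⟨z, hz⟩ := IsIntegrallyClosed.isIntegral_iff.1 hint
    exact ⟨z, by rw [hq, ← hz]; simp⟩
  choose z hz using hint
  have hval : ∀ χ : IrrCharacter G, ∀ d ∈ H, d ≠ 1 → χ.1 d = (z χ : ℂ) := fun χ d hd hd1 => by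
    rw [← hz χ, CharInt.char_eq_of_isConj (Char.irr_isCharacter χ) (hall a ha ha1 d hd hd1)]
  obtain ⟨k, hk⟩ := IsPGroup.iff_card.mp c.hp
  have h3 : 3 ≤ Nat.card H := by
    have hk0 : k ≠ 0 := fun h => c.ne_bot (Subgroup.card_eq_one.mp (by rw [hk, h, pow_zero]))
    rw [hk]
    calc 3 ≤ p := by have := hpp.out.two_le; omega
      _ ≤ p ^ k := Nat.le_self_pow hk0 p
  set m : ℝ := (Nat.card H : ℝ) - 1 with hm
  have hm2 : (2 : ℝ) ≤ m := by
    have : (3 : ℝ) ≤ (Nat.card H : ℝ) := by exact_mod_cast h3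
    linarith
  have hS : ∀ χ : IrrCharacter G,
      sumH H χ = (((Char.degree χ : ℝ) + m * (z χ : ℝ) : ℝ) : ℂ) := by
    intro χ
    rw [sumH, ← Finset.add_sum_erase Finset.univ _ (Finset.mem_univ (1 : H)),
      Finset.sum_congr rfl (g := fun _ => (z χ : ℂ)) (fun (d : H) hd => hval χ (d : G) d.2 fun h =>
        (Finset.mem_erase.mp hd).1 (Subtype.ext h)),
      Finset.sum_const, Finset.card_erase_of_mem (Finset.mem_univ _), Finset.card_univ,
      ← Nat.card_eq_fintype_card, nsmul_eq_mul, Nat.cast_sub (show 1 ≤ Nat.card H by omega),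
      OneMemClass.coe_one, Char.apply_one_eq_degree, hm]
    push_cast
    ring
  have hpair := c.pairing hM ha ha ha1
  have hweak := weak_orth (G := G) hM (x := 1) (by simp [IsPRegular, hpp.out.ne_one])
    (not_isPRegular c.hp ha ha1)
  simp only [hS, Char.apply_one_eq_degree, hz, map_intCast] at hpair hweak
  have hpair' : ∑ χ ∈ bl M G, ((Char.degree χ : ℝ) + m * z χ) / (Char.degree χ : ℝ) * z χ * z χ =
      ∑ χ ∈ bl M G, ((Char.degree χ : ℝ) + m * z χ) * z χ := by
    apply Complex.ofReal_injective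
    push_cast
    push_cast at hpair
    exact hpair
  have hweak' : ∑ χ ∈ bl M G, (Char.degree χ : ℝ) * (z χ : ℝ) = 0 := by
    apply Complex.ofReal_injective
    push_cast
    exact hweak
  set T : IrrCharacter G → ℝ := fun χ =>
    (z χ : ℝ) ^ 2 * ((m - 1) * (Char.degree χ : ℝ) - m * z χ) / (Char.degree χ : ℝ)
  have hdeg : ∀ χ : IrrCharacter G, (1 : ℝ) ≤ (Char.degree χ : ℝ) := fun χ => by
    exact_mod_cast Char.degree_pos χ
  have hT : ∑ χ ∈ bl M G, T χ = 0 := by
    have e : ∀ χ ∈ bl M G, T χ = (((Char.degree χ : ℝ) + m * z χ) * z χ -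
        ((Char.degree χ : ℝ) + m * z χ) / (Char.degree χ : ℝ) * z χ * z χ) -
        (Char.degree χ : ℝ) * (z χ : ℝ) := by
      intro χ _
      have := hdeg χ
      simp only [T]
      field_simp
      ring
    rw [Finset.sum_congr rfl e, Finset.sum_sub_distrib, Finset.sum_sub_distrib, hpair', hweak']
    ring
  have htd : Char.degree (Char.trivialChar G) = 1 := by
    have := Char.apply_one_eq_degree (Char.trivialChar G)
    simp only [Char.trivialChar] at this
    exact_mod_cast this.symm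
  have htz : z (Char.trivialChar G) = 1 := by
    have := hz (Char.trivialChar G)
    simp only [Char.trivialChar] at this
    exact_mod_cast this.symm
  have htr : T (Char.trivialChar G) = -1 := by simp [T, htd, htz]
  have hnonneg : ∀ χ ∈ bl M G, χ ≠ Char.trivialChar G → 0 ≤ T χ := by
    intro χ hχ hne
    have hb : m * (z χ : ℝ) ≤ (Char.degree χ : ℝ) := c.value_bound hM hχ (hval χ) hne
    have hd := hdeg χ
    refine div_nonneg (mul_nonneg (sq_nonneg _) ?_) (by linarith)
    nlinarith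
  obtain ⟨ψ, hψ, hψneg⟩ : ∃ ψ ∈ bl M G, z ψ < 0 := by
    by_contra hcon
    push Not at hcon
    have h1 := Finset.single_le_sum (f := fun χ => (Char.degree χ : ℝ) * (z χ : ℝ))
      (fun χ hχ => mul_nonneg (Nat.cast_nonneg _) (by exact_mod_cast hcon χ hχ))
      (triv_mem_bl (M := M) (G := G))
    rw [hweak', htd, htz] at h1
    norm_num at h1
  have hψne : ψ ≠ Char.trivialChar G := fun h => by rw [h, htz] at hψneg; omega
  have hψT : 1 < T ψ := by
    have h1 : (z ψ : ℝ) ≤ -1 := by exact_mod_cast (show z ψ ≤ -1 by omega)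
    have h2 := hdeg ψ
    simp only [T]
    rw [lt_div_iff₀ (by linarith)]
    have e1 : (1 : ℝ) ≤ (z ψ : ℝ) ^ 2 := by nlinarith
    have e2 : (Char.degree ψ : ℝ) < (m - 1) * Char.degree ψ - m * (z ψ : ℝ) := by nlinarith
    calc (1 : ℝ) * Char.degree ψ < 1 * ((m - 1) * Char.degree ψ - m * (z ψ : ℝ)) := by linarith
      _ ≤ _ := mul_le_mul_of_nonneg_right e1 (by linarith)
  have hsub : ({Char.trivialChar G, ψ} : Finset (IrrCharacter G)) ⊆ bl M G := by
    intro χ hχ
    simp only [Finset.mem_insert, Finset.mem_singleton] at hχ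
    rcases hχ with rfl | rfl
    · exact triv_mem_bl
    · exact hψ
  have hle := Finset.sum_le_sum_of_subset_of_nonneg hsub fun χ hχ hnot =>
    hnonneg χ hχ fun h => hnot (by simp [h])
  rw [Finset.sum_pair (Ne.symm hψne), htr, hT] at hle
  linarith

end MinCfg

end Cfsg.Agent.ExtremelyClosedP
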