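import Cfsg.Agent.Lib.ExtremelyClosed.Main
import Cfsg.Agent.Lib.Transfer.Burnside

/-!
# Extremely closed abelian `p`-subgroups: the group theory

For every `g`, `⟨H, H^g⟩ = H R_g` with `R_g` the `p'`-core, on which `H` has no fixed points.
-/

set_option linter.style.haveILetI false
set_option linter.unusedSectionVars false

namespace Cfsg.Agent.ExtremelyClosedP

open Cfsg Subgroup
open Cfsg.Agent.ExtremelyClosed (pair le_pair conj_mem_pair isSolvable_of_comm commute_of_mem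
  mem_normalizer_of_map_le)
open scoped Pointwise

universe u

variable {G : Type u} [Group G] [Finite G] {H : Subgroup G} {p : ℕ} [hpp : Fact p.Prime]

/-- The `p'`-core of a subgroup, in `G`. -/
def pc (p : ℕ) (X : Subgroup G) : Subgroup G := (pPrimeCore p X).map X.subtype

omit [Finite G] hpp in
theorem pc_le (X : Subgroup G) : pc p X ≤ X := map_subtype_le _

theorem coprime_card_pc (X : Subgroup G) : (Nat.card (pc p X)).Coprime p := by
  rw [pc, Subgroup.card_map_of_injective X.subtype_injective]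
  exact PCore.coprime_card_pPrimeCore

theorem le_normalizer_pc (X : Subgroup G) : X ≤ normalizer (pc p X : Set G) := by
  intro x hx
  rw [mem_normalizer_iff]
  intro y
  have hn : (pPrimeCore p X).Normal := inferInstance
  constructor
  · rintro ⟨z, hz, rfl⟩
    exact ⟨⟨x, hx⟩ * z * ⟨x, hx⟩⁻¹, hn.conj_mem z hz _, rfl⟩
  · rintro ⟨z, hz, e⟩
    refine ⟨⟨x, hx⟩⁻¹ * z * ⟨x, hx⟩, by simpa using hn.conj_mem z hz ⟨x, hx⟩⁻¹, ?_⟩
    have e' : (z : G) = x * y * x⁻¹ := e
    show x⁻¹ * (z : G) * x = y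
    rw [e']; group

theorem coprime_card (hH : IsPGroup p H) {N : Subgroup G} (hN : (Nat.card N).Coprime p) :
    (Nat.card H).Coprime (Nat.card N) := by
  obtain ⟨k, hk⟩ := IsPGroup.iff_card.mp hH
  rw [hk]
  exact hN.symm.pow_left _

omit [Finite G] in
theorem not_dvd_orderOf_of_mem {N : Subgroup G} (hN : (Nat.card N).Coprime p) {x : G}
    (hx : x ∈ N) : ¬ p ∣ orderOf x := fun h =>
  hpp.out.coprime_iff_not_dvd.mp hN.symm (h.trans (Subgroup.orderOf_dvd_natCard N hx))

omit [Finite G] in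
theorem eq_one_of_not_dvd (hH : IsPGroup p H) {x : G} (hx : x ∈ H) (ho : ¬ p ∣ orderOf x) :
    x = 1 := by
  obtain ⟨k, hk⟩ := IsPGroup.iff_orderOf.mp hH ⟨x, hx⟩
  rw [Subgroup.orderOf_mk] at hk
  rcases k with _ | k
  · exact orderOf_eq_one_iff.mp (by simpa using hk)
  · exact absurd (hk ▸ dvd_pow_self p k.succ_ne_zero) ho

theorem mem_of_not_dvd_of_mem_sup (hH : IsPGroup p H) {N : Subgroup G}
    (hHN : H ≤ normalizer (N : Set G)) (hN : (Nat.card N).Coprime p) {x : G} (hx : x ∈ H ⊔ N)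
    (ho : ¬ p ∣ orderOf x) : x ∈ N := by
  obtain ⟨a, ha, n, hn, rfl⟩ := (Coprime.mem_sup_iff_of_le_normalizer hHN).1 hx
  have key : ∀ k : ℕ, (a ^ k)⁻¹ * (a * n) ^ k ∈ N := by
    intro k
    induction k with
    | zero => simp
    | succ k ih =>
      have h1 := (mem_normalizer_iff.1 (hHN (inv_mem ha)) _).1 ih
      have h2 := mul_mem h1 hn
      convert h2 using 1
      rw [pow_succ a, pow_succ (a * n)]
      group
  have h := key (orderOf (a * n))
  rw [pow_orderOf_eq_one, mul_one, inv_mem_iff] at h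
  have h1 : a ^ orderOf (a * n) = 1 :=
    eq_one_of_not_dvd hH (pow_mem ha _) (not_dvd_orderOf_of_mem hN h)
  have h2 : a = 1 :=
    eq_one_of_not_dvd hH ha fun hd => ho (hd.trans (orderOf_dvd_of_pow_eq_one h1))
  rwa [h2, one_mul]

/-- A `p`-group containing `H` in which `H` is self-normalizing equals `H`. -/
theorem eq_of_isPGroup_of_inf_normalizer_le {P : Subgroup G} (hP : IsPGroup p P) (hHP : H ≤ P)
    (h : P ⊓ normalizer (H : Set G) ≤ H) : P = H := by
  by_contra hne
  have hne' : H.subgroupOf P ≠ ⊤ := fun ht => hne (le_antisymm (subgroupOf_eq_top.mp ht) hHP)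
  obtain ⟨x, hx, hxn⟩ := SetLike.exists_of_lt (PGroup.lt_normalizer hP hne')
  refine hxn (mem_subgroupOf.mpr (h ⟨x.2, mem_normalizer_iff.mpr fun y => ?_⟩))
  constructor
  · intro hy
    exact (mem_normalizer_iff.1 hx ⟨y, hHP hy⟩).1 hy
  · intro hy
    have hy' : y ∈ P := by
      have := mul_mem (mul_mem (inv_mem x.2) (hHP hy)) x.2
      simpa [mul_assoc] using this
    exact (mem_normalizer_iff.1 hx ⟨y, hy'⟩).2 hy

theorem pair_eq_self (hcl : IsExtremelyClosed H) {g : G} (hK : IsPGroup p (pair H g)) :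
    g ∈ normalizer (H : Set G) := by
  have h := eq_of_isPGroup_of_inf_normalizer_le hK (le_pair g) (hcl g).le
  exact mem_normalizer_of_map_le (le_sup_right.trans h.le)

theorem le_normalizer_of_isPGroup (hcl : IsExtremelyClosed H) {P : Subgroup G}
    (hP : IsPGroup p P) (hHP : H ≤ P) : P ≤ normalizer (H : Set G) := by
  intro x hx
  refine pair_eq_self hcl (hP.to_le (sup_le hHP ?_))
  rintro _ ⟨y, hy, rfl⟩
  exact mul_mem (mul_mem hx (hHP hy)) (inv_mem hx)

/-- The standing hypotheses. -/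
structure Setup (p : ℕ) (H : Subgroup G) : Prop where
  hp : IsPGroup p H
  ab : IsMulCommutative H
  cl : IsExtremelyClosed H

namespace Setup

variable (s : Setup p H)
include s

omit [Finite G] hpp in
theorem inf_normalizer {g x : G} (hx : x ∈ pair H g) (hn : x ∈ normalizer (H : Set G)) :
    x ∈ H := (s.cl g).le ⟨hx, hn⟩

/-- `⟨H, H^g⟩ = H R_g`. -/
theorem pair_le (g : G) : pair H g ≤ H ⊔ pc p (pair H g) := by
  set T := pair H g with hT
  set H' : Subgroup T := H.subgroupOf T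
  have hH'p : IsPGroup p H' := s.hp.comap_subtype
  obtain ⟨P, hP⟩ := hH'p.exists_le_sylow
  have hN : normalizer (H' : Set T) ≤ H' := fun t ht => by
    refine mem_subgroupOf.mpr (s.inf_normalizer t.2 (mem_normalizer_of_map_le ?_))
    rintro _ ⟨a, ha, rfl⟩
    exact mem_subgroupOf.mp ((mem_normalizer_iff.1 ht ⟨a, le_pair g ha⟩).1 (mem_subgroupOf.mpr ha))
  have hPH : (P : Subgroup T) = H' :=
    eq_of_isPGroup_of_inf_normalizer_le P.2 hP (inf_le_right.trans hN)
  have hnpc : Cfsg.HasNormalPComplement p T := by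
    refine Transfer.hasNormalPComplement_of_normalizer_le_centralizer P fun n hn => ?_
    show n ∈ centralizer ((P : Subgroup T) : Set T)
    have hn' : n ∈ normalizer ((P : Subgroup T) : Set T) := hn
    rw [hPH] at hn' ⊢
    intro y hy
    exact Subtype.ext (commute_of_mem s.ab (mem_subgroupOf.mp hy) (mem_subgroupOf.mp (hN hn')))
  obtain ⟨N, hN', hNP⟩ := (Transfer.hasNormalPComplement_iff_exists P).mp hnpc
  have hNle : N ≤ pPrimeCore p T :=
    PCore.le_pPrimeCore (hN := hN') (Transfer.coprime_card_of_isComplement'_sylow P hNP)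
  intro t ht
  obtain ⟨⟨⟨a, ha⟩, ⟨b, hb⟩⟩, hab⟩ := hNP.surjective ⟨t, ht⟩
  have e : t = (a : G) * (b : G) := (congrArg Subtype.val hab).symm
  rw [e]
  refine mul_mem (mem_sup_right ⟨a, hNle ha, rfl⟩) (mem_sup_left ?_)
  exact (hPH ▸ hb : b ∈ H')

theorem le_normalizer_pc_pair (g : G) : H ≤ normalizer (pc p (pair H g) : Set G) :=
  (le_pair g).trans (le_normalizer_pc _)

theorem eq_one_of_mem_pc {g x : G} (hx : x ∈ pc p (pair H g)) (hxH : x ∈ H) : x = 1 :=
  eq_one_of_not_dvd s.hp hxH (not_dvd_orderOf_of_mem (coprime_card_pc _) hx)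

theorem eq_one_of_centralizer {g x : G} (hx : x ∈ pc p (pair H g))
    (hc : x ∈ centralizer (H : Set G)) : x = 1 :=
  s.eq_one_of_mem_pc hx (s.inf_normalizer (pc_le _ hx) (Subgroup.centralizer_le_normalizer _ hc))

/-- An element of `R_g` moving `H` only inside `N` lies in `N`. -/
theorem mem_of_commutator_mem {g u : G} {N : Subgroup G} (hu : u ∈ pc p (pair H g))
    (hHN : H ≤ normalizer (N : Set G)) (hN : (Nat.card N).Coprime p)
    (h : ∀ a ∈ H, u⁻¹ * a * u * a⁻¹ ∈ H ⊔ N) : u ∈ N := by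
  set N₀ := pc p (pair H g) ⊓ N
  have hHN₀ : H ≤ normalizer (N₀ : Set G) := fun a ha =>
    inf_normalizer_le_normalizer_inf ⟨s.le_normalizer_pc_pair g ha, hHN ha⟩
  have hN₀ : (Nat.card N₀).Coprime p := hN.coprime_dvd_left (card_dvd_of_le inf_le_right)
  obtain ⟨n, hn, hc⟩ := Coprime.exists_mul_mem_centralizer hHN₀ (coprime_card s.hp hN₀)
    (Or.inl (isSolvable_of_comm s.ab)) (k := u) (fun a ha => by
      have hR : u⁻¹ * a * u * a⁻¹ ∈ pc p (pair H g) := by
        have := mul_mem (inv_mem hu) ((mem_normalizer_iff.1 (s.le_normalizer_pc_pair g ha) u).1 hu)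
        simpa [mul_assoc] using this
      exact ⟨hR, mem_of_not_dvd_of_mem_sup s.hp hHN hN (h a ha)
        (not_dvd_orderOf_of_mem (coprime_card_pc _) hR)⟩)
  have h1 := s.eq_one_of_centralizer (mul_mem hu hn.1) hc
  rw [mul_eq_one_iff_eq_inv] at h1
  exact h1 ▸ inv_mem hn.2

theorem exists_conj_mul (g : G) :
    ∃ n ∈ normalizer (H : Set G), g * n⁻¹ ∈ pc p (pair H g) := by
  obtain ⟨o, ho, e⟩ := Coprime.exists_conj_eq_of_le_sup (H := H)
    (K := H.map (MulAut.conj g).toMonoidHom) (s.le_normalizer_pc_pair g)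
    ((le_sup_right (a := H)).trans (s.pair_le g))
    (Subgroup.card_map_of_injective (MulEquiv.injective _))
    (coprime_card s.hp (coprime_card_pc _)) (Or.inr (isSolvable_of_comm s.ab))
  refine ⟨o⁻¹ * g, mem_normalizer_of_map_le ?_, by simpa using ho⟩
  rintro _ ⟨a, ha, rfl⟩
  have h1 : MulAut.conj g a ∈ MulAut.conj o • H := e.ge ⟨a, ha, rfl⟩
  rw [Coprime.mem_conj_smul_iff] at h1
  show (o⁻¹ * g) * a * (o⁻¹ * g)⁻¹ ∈ H
  convert h1 using 1
  rw [MulAut.conj_apply]
  group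

/-- `g ↦ n` with `n ∈ N(H)` and `g n⁻¹ ∈ R_g`. -/
noncomputable def nel (g : G) : G := (s.exists_conj_mul g).choose

theorem nel_mem (g : G) : s.nel g ∈ normalizer (H : Set G) :=
  (s.exists_conj_mul g).choose_spec.1

theorem mul_nel_inv_mem (g : G) : g * (s.nel g)⁻¹ ∈ pc p (pair H g) :=
  (s.exists_conj_mul g).choose_spec.2

theorem nel_conj_mem (g : G) {a : G} (ha : a ∈ H) : s.nel g * a * (s.nel g)⁻¹ ∈ H :=
  (mem_normalizer_iff.1 (s.nel_mem g) a).1 ha

theorem conj_mul_nel_mem (g : G) {a : G} (ha : a ∈ H) :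
    g * a * g⁻¹ * (s.nel g * a * (s.nel g)⁻¹)⁻¹ ∈ pc p (pair H g) := by
  have ho := s.mul_nel_inv_mem g
  have := mul_mem ho ((mem_normalizer_iff.1 (s.le_normalizer_pc_pair g (s.nel_conj_mem g ha))
    _).1 (inv_mem ho))
  convert this using 1
  group

/-- Fusion in `H` is controlled by `N(H)`. -/
theorem fusion {g a : G} (ha : a ∈ H) (hg : g * a * g⁻¹ ∈ H) :
    g * a * g⁻¹ = s.nel g * a * (s.nel g)⁻¹ :=
  mul_inv_eq_one.1 (s.eq_one_of_mem_pc (s.conj_mul_nel_mem g ha)
    (mul_mem hg (inv_mem (s.nel_conj_mem g ha))))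

/-- The `p`-part of an element of `R_g a` is conjugate under `R_g` to `a`. -/
theorem exists_pPart {g a r : G} (ha : a ∈ H) (hr : r ∈ pc p (pair H g)) :
    ∃ o ∈ pc p (pair H g), ∃ y ∈ pc p (pair H g), Commute y a ∧ o⁻¹ * (r * a) * o = a * y := by
  set R := pc p (pair H g) with hR
  have hHR : H ≤ normalizer (R : Set G) := s.le_normalizer_pc_pair g
  have hz : r * a ∈ H ⊔ R := mul_mem (mem_sup_right hr) (mem_sup_left ha)
  obtain ⟨x, hx⟩ := Blocks.exists_isPPart (p := p) (r * a)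
  have hxz : x ∈ H ⊔ R := zpowers_le.mpr hz (Blocks.IsPPart.mem_zpowers hx)
  obtain ⟨y, hxy, hcomm, ⟨k, hk⟩, hy⟩ := hx
  have hxp : IsPGroup p (zpowers x) := IsPGroup.of_card (n := k) (by rw [Nat.card_zpowers, hk])
  obtain ⟨o, ho, hle⟩ := Coprime.exists_le_conj_of_le_sup (A := H) (N := R) (B := zpowers x) hHR
    (zpowers_le.mpr hxz) (coprime_card s.hp (coprime_card_pc _))
    (coprime_card hxp (coprime_card_pc _)) (Or.inl (isSolvable_of_comm s.ab))
  have hd : o⁻¹ * x * o ∈ H := by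
    have := hle (mem_zpowers x)
    rw [Coprime.mem_conj_smul_iff] at this
    simpa using this
  have hyR : y ∈ R := by
    refine mem_of_not_dvd_of_mem_sup s.hp hHR (coprime_card_pc _) ?_ hy
    have := mul_mem (inv_mem hxz) hz
    rwa [← hxy, inv_mul_cancel_left] at this
  have hy' : o⁻¹ * y * o ∈ R := mul_mem (mul_mem (inv_mem ho) hyR) ho
  have hxa : o⁻¹ * x * o = a := by
    refine inv_mul_eq_one.1 (s.eq_one_of_mem_pc (g := g) ?_ (mul_mem (inv_mem hd) ha))
    have h1 : a⁻¹ * (o⁻¹ * r) * a ∈ R := by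
      have := (mem_normalizer_iff.1 (hHR (inv_mem ha)) _).1 (mul_mem (inv_mem ho) hr)
      rwa [inv_inv] at this
    have h2 := inv_mem (mul_mem h1 (mul_mem (inv_mem hyR) ho))
    convert h2 using 1
    rw [show x = r * a * y⁻¹ from eq_mul_inv_of_mul_eq hxy]
    group
  refine ⟨o, ho, o⁻¹ * y * o, hy', ?_, ?_⟩
  · rw [← hxa]
    show o⁻¹ * y * o * (o⁻¹ * x * o) = o⁻¹ * x * o * (o⁻¹ * y * o)
    calc o⁻¹ * y * o * (o⁻¹ * x * o) = o⁻¹ * (y * x) * o := by group
      _ = o⁻¹ * (x * y) * o := by rw [hcomm.eq]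
      _ = _ := by group
  · rw [← hxy, ← hxa]
    group

end Setup

end Cfsg.Agent.ExtremelyClosedP
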