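import Cfsg.Agent.Lib.ExtremelyClosed.Odd.Column

/-!
# Extremely closed abelian `p`-subgroups: the principal block in a minimal configuration
-/

set_option linter.style.haveILetI false
set_option linter.unusedSectionVars false

namespace Cfsg.Agent.ExtremelyClosedP

open Cfsg Subgroup
open Cfsg.Agent.ExtremelyClosed (pair le_pair isSolvable_of_comm commute_of_mem bl mem_bl
  triv_mem_bl sumH sumH_trivial exists_weight mem_normalizer_of_map_le mem_centralizer_of_mem)
open scoped ComplexConjugate Classical Pointwise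

universe u

variable {G : Type u} [Group G] [Finite G] {H : Subgroup G} {p : ℕ} [hpp : Fact p.Prime]

theorem not_isPRegular (hH : IsPGroup p H) {a : G} (ha : a ∈ H) (ha1 : a ≠ 1) :
    ¬ IsPRegular p a := fun h => ha1 (eq_one_of_not_dvd hH ha h)

theorem exists_orderOf_pow (hH : IsPGroup p H) {a : G} (ha : a ∈ H) :
    ∃ k : ℕ, orderOf a = p ^ k := by
  obtain ⟨i, hi⟩ := IsPGroup.iff_orderOf.mp hH ⟨a, ha⟩
  exact ⟨i, by rwa [Subgroup.orderOf_mk] at hi⟩

theorem isPPart_self (hH : IsPGroup p H) {a : G} (ha : a ∈ H) : IsPPart p a a :=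
  ⟨1, mul_one a, Commute.one_right a, exists_orderOf_pow hH ha, by simp [hpp.out.ne_one]⟩

/-- A minimal configuration. -/
structure MinCfg (p : ℕ) (H : Subgroup G) : Prop extends Setup p H where
  ind : ∀ X : Subgroup G, X ≠ ⊤ → H ≤ X →
    ∀ x ∈ X, ∃ n ∈ normalizer (H : Set G), ∃ o ∈ pc p X, x = n * o
  core : pPrimeCore p G = ⊥
  nn : ¬ H.Normal
  nc : ∀ a ∈ H, orderOf a = p → a ∉ Subgroup.center G

namespace MinCfg

variable (c : MinCfg p H)
include c

theorem ne_bot : H ≠ ⊥ := fun h => c.nn (h ▸ inferInstance)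

theorem normal_eq_top {N : Subgroup G} [N.Normal] (hHN : H ≤ N) : N = ⊤ := by
  by_contra hN
  have hoc : pc p N = ⊥ := by
    rw [pc, PCore.pPrimeCore_eq_bot_of_normal N c.core, Subgroup.map_bot]
  have hle : N ≤ normalizer (H : Set G) := fun x hx => by
    obtain ⟨n, hn, o, ho, rfl⟩ := c.ind N hN hHN x hx
    rw [hoc, mem_bot] at ho
    rwa [ho, mul_one]
  haveI : (H.subgroupOf N).Normal := Coprime.normal_subgroupOf_of_le_normalizer hle
  have h1 : H.subgroupOf N ≤ pCore p N :=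
    PCore.le_pCore (c.hp.comap_of_injective N.subtype N.subtype_injective)
  have h2 : H ≤ pCore p G := fun x hx => by
    have : x ∈ (pCore p N).map N.subtype := ⟨⟨x, hHN hx⟩, h1 hx, rfl⟩
    rw [PCore.map_pCore_subtype_of_normal] at this
    exact this.1
  refine c.nn ⟨fun a ha g => ?_⟩
  refine (mem_normalizer_iff.1 (pair_eq_self c.cl (PCore.isPGroup_pCore.to_le (sup_le h2 ?_))) a).1 ha
  rintro _ ⟨b, hb, rfl⟩
  exact (inferInstance : (pCore p G).Normal).conj_mem b (h2 hb) g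

theorem centralizer_ne_top {a : G} (ha : a ∈ H) (ha1 : a ≠ 1) :
    centralizer ({a} : Set G) ≠ ⊤ := by
  intro h
  obtain ⟨k, hk⟩ := exists_orderOf_pow c.hp ha
  have hdvd : p ∣ Nat.card (zpowers a) := by
    rw [Nat.card_zpowers, hk]
    refine dvd_pow_self p ?_
    rintro rfl
    exact ha1 (orderOf_eq_one_iff.1 (by simpa using hk))
  obtain ⟨b, hb⟩ := exists_prime_orderOf_dvd_card' p hdvd
  refine c.nc b (zpowers_le.mpr ha b.2) (by rw [Subgroup.orderOf_coe, hb]) ?_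
  obtain ⟨i, hi⟩ := mem_zpowers_iff.mp b.2
  rw [← hi]
  exact zpow_mem (mem_center_iff.mpr fun g =>
    mem_centralizer_singleton_iff.mp (show g ∈ centralizer ({a} : Set G) from h ▸ mem_top g)) i

/-- `C_R(a)` is in the `p'`-core of `C(a)`. -/
theorem mem_theta {g a u : G} (ha : a ∈ H) (ha1 : a ≠ 1) (hu : u ∈ pc p (pair H g))
    (hua : Commute u a) : u ∈ centralizerPPrimeCore p a := by
  set X := centralizer ({a} : Set G)
  have hHX : H ≤ X := mem_centralizer_of_mem c.ab ha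
  obtain ⟨n, hn, o, ho, e⟩ :=
    c.ind X (c.centralizer_ne_top ha ha1) hHX u (mem_centralizer_singleton_iff.mpr hua)
  have hHo : H ≤ normalizer (pc p X : Set G) := hHX.trans (le_normalizer_pc X)
  show u ∈ pc p X
  refine c.mem_of_commutator_mem hu hHo (coprime_card_pc X) fun b hb => ?_
  have h1 : n⁻¹ * b * n ∈ H := by
    have := (mem_normalizer_iff.1 (inv_mem hn) b).1 hb
    rwa [inv_inv] at this
  subst e
  have h2 : o⁻¹ * (n⁻¹ * b * n) * o * b⁻¹ ∈ H ⊔ pc p X :=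
    mul_mem (mul_mem (mul_mem (mem_sup_right (inv_mem ho)) (mem_sup_left h1)) (mem_sup_right ho))
      (mem_sup_left (inv_mem hb))
  convert h2 using 1
  group

variable {M : Ideal AlgInt} (hM : IsPModular p M)
include hM

/-- Characters of the principal block are constant on `R_g a`. -/
theorem const {χ : IrrCharacter G} (hχ : χ ∈ principalBlock M G) {g a r : G} (ha : a ∈ H)
    (ha1 : a ≠ 1) (hr : r ∈ pc p (pair H g)) : χ.1 (r * a) = χ.1 a := by
  obtain ⟨o, -, y, hy, hya, e⟩ := c.exists_pPart (g := g) ha hr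
  have hv := c.mem_theta ha ha1 hy hya
  rw [← ZStar.apply_mul_pPrimeCore hM (exists_orderOf_pow c.hp ha) hv hχ, ← e,
    show o⁻¹ * (r * a) * o = o⁻¹ * (r * a) * o⁻¹⁻¹ by rw [inv_inv],
    CharInt.char_conj_apply (Char.irr_isCharacter χ)]

omit hM in
theorem trivial_of_le_kernel {χ : IrrCharacter G} (h : ∀ a ∈ H, χ.1 a = χ.1 1) :
    χ = Char.trivialChar G := by
  refine ZStar.eq_trivialChar_of_const fun g => ?_
  have hc := Char.irr_isCharacter χ
  haveI := CharInt.charKernel_normal hc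
  have := c.normal_eq_top (N := CharInt.charKernel hc) fun a ha =>
    (CharInt.mem_charKernel hc).mpr (h a ha)
  exact (CharInt.mem_charKernel hc).mp (this ▸ mem_top g)

variable [Fintype H]

/-- Averaging `χ(a) χ(b)` over `b ∈ H`. -/
theorem average {χ : IrrCharacter G} (hχ : χ ∈ bl M G) [Fintype G] {a : G} (ha : a ∈ H) :
    (Nat.card G : ℂ) * χ.1 a * sumH H χ = χ.1 1 * ((Nat.card G : ℂ) * (sumH H χ - χ.1 1) +
      ∑ g : G, χ.1 (g * a * g⁻¹ * (c.nel g * a * (c.nel g)⁻¹)⁻¹)) := by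
  have hstep : ∀ g : G, ∑ b : H, χ.1 (g * a * g⁻¹ * b) = sumH H χ - χ.1 1 +
      χ.1 (g * a * g⁻¹ * (c.nel g * a * (c.nel g)⁻¹)⁻¹) := by
    intro g
    set e : H := ⟨c.nel g * a * (c.nel g)⁻¹, c.nel_conj_mem g ha⟩ with he
    set z := g * a * g⁻¹ * (c.nel g * a * (c.nel g)⁻¹)⁻¹ with hz
    have h1 : ∑ b : H, χ.1 (g * a * g⁻¹ * b) =
        ∑ d : H, (χ.1 d + if d = 1 then χ.1 z - χ.1 1 else 0) := by
      refine Fintype.sum_equiv (Equiv.mulLeft e) _ _ fun b => ?_
      have hb : g * a * g⁻¹ * b = z * ((e * b : H) : G) := by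
        rw [hz, Subgroup.coe_mul, he]; group
      show _ = χ.1 ((e * b : H) : G) + if e * b = 1 then χ.1 z - χ.1 1 else 0
      rw [hb]
      split_ifs with h
      · rw [h, OneMemClass.coe_one, mul_one]; ring
      · rw [c.const hM (mem_bl.mp hχ) (g := g) (e * b).2 (fun h' => h (Subtype.ext h'))
          (c.conj_mul_nel_mem g ha), add_zero]
    rw [h1, Finset.sum_add_distrib, Finset.sum_ite_eq', if_pos (Finset.mem_univ _), sumH]
    ring
  have hsum : ∑ g : G, ∑ b : H, χ.1 1 * χ.1 (g * a * g⁻¹ * b) =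
      (Nat.card G : ℂ) * χ.1 a * sumH H χ := by
    rw [Finset.sum_comm, sumH, Finset.mul_sum]
    refine Finset.sum_congr rfl fun b _ => ?_
    rw [← Finset.mul_sum, Char.sum_irr_conj_mul χ.2]
  rw [← hsum]
  simp only [← Finset.mul_sum]
  rw [Finset.sum_congr rfl (fun g _ => hstep g), Finset.sum_add_distrib, Finset.sum_const,
    Finset.card_univ, nsmul_eq_mul, ← Nat.card_eq_fintype_card]

omit c [Fintype H] in
theorem weak_orth {x y : G} (hx : IsPRegular p x) (hy : ¬ IsPRegular p y) :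
    ∑ χ ∈ bl M G, χ.1 x * conj (χ.1 y) = 0 := by
  haveI := hM.2.1
  rw [bl]
  convert Blocks.weak_orthogonality hM.2.2 (Blocks.isPBlock_principalBlock hM.2.2) hx hy

/-- `∑_B (S/χ(1)) χ(a) conj χ(d) = ∑_B S conj χ(d)` for `a, d ∈ H`, `d ≠ 1`. -/
theorem pairing {a d : G} (ha : a ∈ H) (hd : d ∈ H) (hd1 : d ≠ 1) :
    ∑ χ ∈ bl M G, sumH H χ / χ.1 1 * χ.1 a * conj (χ.1 d) =
      ∑ χ ∈ bl M G, sumH H χ * conj (χ.1 d) := by
  haveI := Fintype.ofFinite G
  have hG : (Nat.card G : ℂ) ≠ 0 := Char.card_ne_zero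
  set z : G → G := fun g => g * a * g⁻¹ * (c.nel g * a * (c.nel g)⁻¹)⁻¹
  have hz : ∀ g, ∑ χ ∈ bl M G, χ.1 (z g) * conj (χ.1 d) = 0 := fun g =>
    weak_orth hM (not_dvd_orderOf_of_mem (coprime_card_pc _) (c.conj_mul_nel_mem g ha))
      (not_isPRegular c.hp hd hd1)
  have h1 : ∑ χ ∈ bl M G, χ.1 1 * conj (χ.1 d) = 0 :=
    weak_orth hM (by simp [IsPRegular, hpp.out.ne_one]) (not_isPRegular c.hp hd hd1)
  refine mul_left_cancel₀ hG ?_
  rw [Finset.mul_sum, Finset.mul_sum]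
  have hterm : ∀ χ ∈ bl M G, (Nat.card G : ℂ) * (sumH H χ / χ.1 1 * χ.1 a * conj (χ.1 d)) =
      (Nat.card G : ℂ) * (sumH H χ * conj (χ.1 d)) - (Nat.card G : ℂ) * (χ.1 1 * conj (χ.1 d)) +
        ∑ g : G, χ.1 (z g) * conj (χ.1 d) := by
    intro χ hχ
    have h := c.average hM hχ ha
    have hne := Blocks.irr_one_ne_zero χ
    rw [← Finset.sum_mul]
    field_simp
    linear_combination conj (χ.1 d) * h
  rw [Finset.sum_congr rfl hterm, Finset.sum_add_distrib, Finset.sum_sub_distrib, ← Finset.mul_sum,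
    ← Finset.mul_sum, Finset.sum_comm, h1, mul_zero, sub_zero,
    Finset.sum_eq_zero (fun g _ => hz g), add_zero, Finset.mul_sum]

/-- If `S ≠ 0` then `χ` is constant on `H \ {1}`. -/
theorem eq_of_sumH_ne_zero {χ : IrrCharacter G} (hχ : χ ∈ bl M G) (hS : sumH H χ ≠ 0) {a b : G}
    (ha : a ∈ H) (ha1 : a ≠ 1) (hb : b ∈ H) (hb1 : b ≠ 1) : χ.1 a = χ.1 b := by
  choose r hr0 hr using fun χ : IrrCharacter G => exists_weight (H := H) χ
  have h0 : ∑ ψ ∈ bl M G, r ψ * Complex.normSq (ψ.1 a - ψ.1 b) = 0 := by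
    apply Complex.ofReal_injective
    rw [Complex.ofReal_sum, Complex.ofReal_zero]
    have he : ∀ ψ ∈ bl M G, ((r ψ * Complex.normSq (ψ.1 a - ψ.1 b) : ℝ) : ℂ) =
        (sumH H ψ / ψ.1 1 * ψ.1 a * conj (ψ.1 a) - sumH H ψ / ψ.1 1 * ψ.1 b * conj (ψ.1 a)) -
        (sumH H ψ / ψ.1 1 * ψ.1 a * conj (ψ.1 b) - sumH H ψ / ψ.1 1 * ψ.1 b * conj (ψ.1 b)) := by
      intro ψ _
      rw [Complex.ofReal_mul, Complex.normSq_eq_conj_mul_self, hr, map_sub]
      ring
    rw [Finset.sum_congr rfl he, Finset.sum_sub_distrib, Finset.sum_sub_distrib,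
      Finset.sum_sub_distrib, c.pairing hM ha ha ha1, c.pairing hM hb ha ha1,
      c.pairing hM ha hb hb1, c.pairing hM hb hb hb1]
    ring
  have h1 := (Finset.sum_eq_zero_iff_of_nonneg
    (fun ψ _ => mul_nonneg (hr0 ψ) (Complex.normSq_nonneg _))).mp h0 χ hχ
  rcases mul_eq_zero.mp h1 with h | h
  · have h2 := hr χ
    rw [h, Complex.ofReal_zero, div_eq_zero_iff] at h2
    exact absurd h2 (not_or.mpr ⟨hS, Blocks.irr_one_ne_zero χ⟩)
  · exact sub_eq_zero.mp (Complex.normSq_eq_zero.mp h)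

/-- The column sum over the principal block at `b, a ∈ H`, `a ≠ 1`, vanishes unless conjugate. -/
theorem column {a b : G} (ha : a ∈ H) (ha1 : a ≠ 1) (hb : b ∈ H) :
    ∑ χ ∈ bl M G, χ.1 b * conj (χ.1 a) =
      if IsConj a b then ∑ χ ∈ bl M G, χ.1 a * conj (χ.1 a) else 0 := by
  haveI := hM.2.1
  split_ifs with h
  · refine Finset.sum_congr rfl fun χ _ => ?_
    rw [CharInt.char_eq_of_isConj (Char.irr_isCharacter χ) h]
  · by_cases hb1 : b = 1
    · subst hb1
      exact weak_orth hM (by simp [IsPRegular, hpp.out.ne_one]) (not_isPRegular c.hp ha ha1)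
    · rw [bl]
      convert Blocks.block_orthogonality hM.2.2 (isPPart_self c.hp hb) (isPPart_self c.hp ha)
        (fun h' => h h'.symm) (Blocks.isPBlock_principalBlock (M := M) (G := G) hM.2.2) using 1

end MinCfg

end Cfsg.Agent.ExtremelyClosedP
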