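import Cfsg.Agent.Lib.ExtremelyClosed.Odd.Invariant

/-!
# The normal closure of an extremely closed abelian `p`-subgroup, `p` odd
-/

set_option linter.style.haveILetI false
set_option linter.unusedSectionVars false

namespace Cfsg.Agent.ExtremelyClosedP

open Cfsg Subgroup
open Cfsg.Agent.ExtremelyClosed (isSolvable_of_comm)
open scoped Classical Pointwise commutatorElement

universe u

variable {G : Type u} [Group G] [Finite G] {H : Subgroup G} {p : ℕ} [hpp : Fact p.Prime]

/-- `H` fixes no nontrivial element of a `p'`-group `W = [W, H]`. -/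
theorem inf_centralizer_eq_bot (hp2 : p ≠ 2) (s : Setup p H) {W : Subgroup G}
    (hHW : H ≤ normalizer (W : Set G)) (hW : (Nat.card W).Coprime p) (hWW : ⁅W, H⁆ = W) :
    W ⊓ centralizer (H : Set G) = ⊥ := by
  haveI := Fintype.ofFinite W
  have hnorm : ∀ t ∈ H, ∀ w ∈ W, t * w * t⁻¹ ∈ W := fun t ht w hw =>
    (mem_normalizer_iff.1 (hHW ht) w).1 hw
  have hirr : ∀ β : IrrCharacter W, Glauberman.IsFix (Glauberman.conjOn hnorm) β.1 →
      β = Char.trivialChar W := fun β hβ => ZStar.eq_trivialChar_of_const fun y =>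
    invTriv_sub (invTriv hp2 _) s hHW hW β ((Glauberman.isFix_conjOn_iff hnorm β.1).1 hβ) y
      (by rw [hWW]; exact y.2)
  have hone := Glauberman.card_fix_irr_eq_card_fix_classes (isSolvable_of_comm s.ab)
    (Glauberman.conjOn hnorm) (coprime_card s.hp hW).symm
  have hle : Nat.card {χ : IrrCharacter W // Glauberman.IsFix (Glauberman.conjOn hnorm) χ.1} ≤ 1 :=
    Finite.card_le_one_iff_subsingleton.2
      ⟨fun a b => Subtype.ext ((hirr _ a.2).trans (hirr _ b.2).symm)⟩
  rw [hone] at hle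
  haveI := Finite.card_le_one_iff_subsingleton.1 hle
  rw [eq_bot_iff]
  rintro c ⟨hcW, hc⟩
  have hfix : ∀ t : H, Glauberman.conjOn hnorm t ⟨c, hcW⟩ = ⟨c, hcW⟩ := fun t => Subtype.ext (by
    rw [Glauberman.coe_conjOn, mul_inv_eq_iff_eq_mul]
    exact mem_centralizer_iff.1 hc t t.2)
  let P1 : {K : ConjClasses W //
      ∀ t, ConjClasses.map (Glauberman.conjOn hnorm t).toMonoidHom K = K} :=
    ⟨ConjClasses.mk 1, fun t => congrArg ConjClasses.mk (map_one (Glauberman.conjOn hnorm t))⟩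
  let Pc : {K : ConjClasses W //
      ∀ t, ConjClasses.map (Glauberman.conjOn hnorm t).toMonoidHom K = K} :=
    ⟨ConjClasses.mk ⟨c, hcW⟩, fun t => congrArg ConjClasses.mk (hfix t)⟩
  have h := congrArg Subtype.val (Subsingleton.elim P1 Pc)
  have h1 : (⟨c, hcW⟩ : W) = 1 := isConj_one_left.mp (ConjClasses.mk_eq_mk_iff_isConj.1 h.symm)
  exact mem_bot.2 (congrArg Subtype.val h1)

theorem normalClosure_inf_normalizer (hp2 : p ≠ 2) (s : Setup p H) :
    Subgroup.normalClosure (H : Set G) ⊓ normalizer (H : Set G) = H := by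
  refine le_antisymm ?_ (le_inf subset_normalClosure le_normalizer)
  have hG := normalizer_sup_pPrimeCore_eq_top hp2 H s.hp s.ab s.cl
  set O := pPrimeCore p G
  have hO : (Nat.card O).Coprime p := PCore.coprime_card_pPrimeCore
  have hHO : H ≤ normalizer (O : Set G) := by rw [Subgroup.normalizer_eq_top]; exact le_top
  set W := ⁅O, H⁆
  have hWO : W ≤ O := Coprime.commutator_le_left_of_le_normalizer hHO
  have hHW : H ≤ normalizer (W : Set G) := normalizer_commutator_ge_right O H
  have hcl : normalClosure (H : Set G) ≤ H ⊔ W := by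
    rw [Subgroup.normalClosure, closure_le]
    intro x hx
    obtain ⟨b, hb, hbx⟩ := Group.mem_conjugatesOfSet_iff.1 hx
    obtain ⟨g, rfl⟩ := isConj_iff.1 hbx
    obtain ⟨n, hn, o, ho, rfl⟩ : ∃ n ∈ normalizer (H : Set G), ∃ o ∈ O, o * n = g := by
      obtain ⟨o, ho, n, hn, e⟩ := Subgroup.mem_sup_of_normal_left.1
        (show g ∈ O ⊔ normalizer (H : Set G) by rw [sup_comm, hG]; exact mem_top g)
      exact ⟨n, hn, o, ho, e⟩
    have hb' : n * b * n⁻¹ ∈ H := (mem_normalizer_iff.1 hn b).1 hb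
    rw [show o * n * b * (o * n)⁻¹ = ⁅o, n * b * n⁻¹⁆ * (n * b * n⁻¹) by
      rw [commutatorElement_def]; group]
    exact mul_mem (mem_sup_right (commutator_mem_commutator ho hb')) (mem_sup_left hb')
  rintro x ⟨hx, hxn⟩
  obtain ⟨a, ha, w, hw, rfl⟩ := (Coprime.mem_sup_iff_of_le_normalizer hHW).1 (hcl hx)
  have hwn : w ∈ normalizer (H : Set G) := by
    simpa using mul_mem (inv_mem (le_normalizer ha)) hxn
  have hwc : w ∈ W ⊓ centralizer (H : Set G) := by
    refine ⟨hw, mem_centralizer_iff.2 fun b hb => ?_⟩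
    have h1 : w * b * w⁻¹ * b⁻¹ = 1 := by
      refine eq_one_of_not_dvd s.hp (mul_mem ((mem_normalizer_iff.1 hwn b).1 hb) (inv_mem hb))
        (not_dvd_orderOf_of_mem hO ?_)
      rw [mul_assoc, mul_assoc, ← mul_assoc b]
      exact mul_mem (hWO hw) ((mem_normalizer_iff.1 (hHO hb) _).1 (inv_mem (hWO hw)))
    exact (mul_inv_eq_iff_eq_mul.1 (mul_inv_eq_one.1 h1)).symm
  rw [inf_centralizer_eq_bot hp2 s hHW (hO.coprime_dvd_left (card_dvd_of_le hWO))
    (Coprime.commutator_commutator_eq hHO (coprime_card s.hp hO)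
      (Or.inl (isSolvable_of_comm s.ab)))] at hwc
  rw [mem_bot.1 hwc, mul_one]
  exact ha

end Cfsg.Agent.ExtremelyClosedP
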