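import Cfsg.Agent.Lib.ExtremelyClosed.Odd.Basic
import Cfsg.Agent.Lib.Char.HeightZeroInduced
import Cfsg.Agent.Lib.Blocks.ThirdMain

/-!
# The principal column norm at a `p`-element

`∑_{χ ∈ B₀} |χ(x)|²` is a natural number divisible by the `p`-part of `|C(x)|`.
-/

set_option linter.style.haveILetI false
set_option linter.unusedSectionVars false

namespace Cfsg.Agent.ExtremelyClosedP

open Cfsg Subgroup
open scoped ComplexConjugate Classical

universe u

variable {G : Type u} [Group G] [Finite G] {M : Ideal AlgInt} {p : ℕ} [hpp : Fact p.Prime]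

theorem exists_column_norm (hM : IsPModular p M) {x : G} (hx : ∃ k, orderOf x = p ^ k) :
    ∃ K : ℕ, p ^ (Nat.card (centralizer ({x} : Set G))).factorization p ∣ K ∧
      ∑ χ ∈ Finset.univ.filter (· ∈ principalBlock M G), χ.1 x * conj (χ.1 x) = (K : ℂ) := by
  haveI := hM.2.1
  set X := centralizer ({x} : Set G)
  haveI := Fintype.ofFinite X
  obtain ⟨hC, hQ⟩ := BlockCount.zpowers_facts x
  obtain ⟨k, hk⟩ := hx
  have hQp : IsPGroup p (zpowers x) := IsPGroup.of_card (n := k) (by rw [Nat.card_zpowers, hk])
  have hB := Blocks.isPBlock_principalBlock (M := M) (G := G) hM.2.2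
  have hb := Blocks.isPBlock_principalBlock (M := M) (G := X) hM.2.2
  set B := principalBlock M X
  refine ⟨∑ η ∈ Finset.univ.filter (· ∈ B), Char.degree η ^ 2, ?_, ?_⟩
  · have h1 := Char.factorization_sum_degree_sq hM.2.2 hpp.out hb
    have h0 : blockDefect p B = (Nat.card X).factorization p := by
      have h0 : sInf ((fun χ : IrrCharacter X => (charDegree χ.1).factorization p) '' B) = 0 :=
        Nat.le_zero.1 (Nat.sInf_le ⟨Char.trivialChar X, Blocks.trivial_mem_principalBlock,
          by simp [charDegree, Char.trivialChar]⟩)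
      rw [blockDefect, h0, Nat.sub_zero]
    rw [h0] at h1
    have h2 : p ^ ((∑ η ∈ Finset.univ.filter (· ∈ B), Char.degree η ^ 2).factorization p) ∣
        ∑ η ∈ Finset.univ.filter (· ∈ B), Char.degree η ^ 2 := Nat.ordProj_dvd _ p
    refine (pow_dvd_pow p ?_).trans h2
    omega
  · have h1 := Blocks.second_main_orth hM.2.2 ⟨k, hk⟩ hB (s := (1 : X)) (s' := 1)
      (by simp [IsPRegular, hpp.out.ne_one]) (by simp [IsPRegular, hpp.out.ne_one])
    have hset : Blocks.inducingSet M X (principalBlock M G) = B := by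
      ext η
      show IsInducedBlock M X (blockOf M η.1) (principalBlock M G) ↔ η ∈ B
      rw [BlockCount.isInducedBlock_principal_iff hM.2.2 hQp hC hQ (Blocks.isPBlock_blockOf η)]
      refine ⟨fun h => by rw [show B = blockOf M η.1 from h.symm]; exact Blocks.mem_blockOf_self η,
        fun h => (Blocks.block_eq hb h).symm⟩
    simp only [OneMemClass.coe_one, mul_one] at h1
    rw [h1, Nat.cast_sum]
    refine Finset.sum_congr (Finset.filter_congr fun η _ => Iff.of_eq (congrArg (η ∈ ·) hset)) fun η _ => ?_
    rw [Char.apply_one_eq_degree, map_natCast, Nat.cast_pow, sq]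

end Cfsg.Agent.ExtremelyClosedP
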