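import Cfsg.Agent.Lib.ExtremelyClosed.Odd.Main
import Cfsg.Agent.Lib.Glauberman.Cyclic
import Cfsg.Agent.Lib.Coprime.Commutator

/-!
# Coprime groups acted on by an extremely closed subgroup

If `H` is extremely closed in `Γ = O H`, `O` a normal `p'`-subgroup, `p` odd, then an invariant
irreducible character of `O` is trivial on `[O, H]`: its extension `χ` satisfies
`χ(a)² = χ(1) χ(a²)`, so `H` acts by scalars. Hence `H` has no fixed points in `[O, H]`.
-/

set_option linter.style.haveILetI false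
set_option linter.unusedSectionVars false

namespace Cfsg.Agent.ExtremelyClosedP

open Cfsg Subgroup
open Cfsg.Agent.ExtremelyClosed (pair le_pair isSolvable_of_comm commute_of_mem
  mem_normalizer_of_map_le isExtremelyClosed_subgroupOf mem_centralizer_of_mem)
open scoped ComplexConjugate Classical Pointwise commutatorElement

universe u

variable {p : ℕ} [hpp : Fact p.Prime]

/-- The statement for `Γ = O H`. -/
def InvTriv (p n : ℕ) : Prop :=
  ∀ (Γ : Type u) [Group Γ] [Finite Γ] (O H : Subgroup Γ), O.Normal → O ⊔ H = ⊤ →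
    (Nat.card O).Coprime p → Setup p H → Nat.card O = n → ∀ χ : IrrCharacter O,
    GlauCyclic.Inv H χ.1 → ∀ k : O, ∀ x ∈ O, ∀ b ∈ H, (k : Γ) = ⁅x, b⁆ → χ.1 k = χ.1 1

/-- The statement for a subgroup normalised by `H`. -/
theorem invTriv_sub {G : Type u} [Group G] [Finite G] {H X : Subgroup G}
    (hQ : InvTriv.{u} p (Nat.card X)) (s : Setup p H) (hHX : H ≤ normalizer (X : Set G))
    (hX : (Nat.card X).Coprime p) (β : IrrCharacter X)
    (hinv : GlauCyclic.Inv H β.1) (y : X) (hy : (y : G) ∈ ⁅X, H⁆) : β.1 y = β.1 1 := by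
  set L : Subgroup G := H ⊔ X
  have hXL : X ≤ L := le_sup_right
  have hHL : H ≤ L := le_sup_left
  have hn : (X.subgroupOf L).Normal :=
    Coprime.normal_subgroupOf_of_le_normalizer (sup_le hHX le_normalizer)
  haveI := s.ab
  have hs : Setup p (H.subgroupOf L) :=
    ⟨s.hp.comap_of_injective L.subtype L.subtype_injective,
      ⟨⟨fun a b => Subtype.ext (Subtype.ext (commute_of_mem s.ab a.2 b.2))⟩⟩,
      isExtremelyClosed_subgroupOf s.cl hHL⟩
  set e := Subgroup.subgroupOfEquivOfLe hXL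
  have hcard : Nat.card (X.subgroupOf L) = Nat.card X := Nat.card_congr e.toEquiv
  let β' : IrrCharacter (X.subgroupOf L) :=
    ⟨_, Char.IsIrrCharacter.comp_surjective β.2 e.toMonoidHom e.surjective⟩
  have hinv' : GlauCyclic.Inv (H.subgroupOf L) β'.1 := fun t ht g g' he =>
    hinv t ht (e g) (e g') (congrArg Subtype.val he)
  have htop : X.subgroupOf L ⊔ H.subgroupOf L = ⊤ := by
    rw [← Subgroup.subgroupOf_sup hXL hHL, sup_comm, Subgroup.subgroupOf_self]
  have key := hQ L (X.subgroupOf L) (H.subgroupOf L) hn htop (by rwa [hcard]) hs hcard β' hinv'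
  have hle : ⁅X, H⁆ ≤ (CharInt.charKernel (Char.irr_isCharacter β)).map X.subtype := by
    refine commutator_le.2 fun x hx b hb => ?_
    have hmem : ⁅x, b⁆ ∈ X := by
      rw [commutatorElement_def, mul_assoc, mul_assoc, ← mul_assoc b]
      exact mul_mem hx ((mem_normalizer_iff.1 (hHX hb) _).1 (inv_mem hx))
    refine ⟨⟨_, hmem⟩, (CharInt.mem_charKernel _).mpr ?_, rfl⟩
    have h1 := key (e.symm ⟨_, hmem⟩) ⟨x, hXL hx⟩ (show (⟨x, hXL hx⟩ : L) ∈ X.subgroupOf L from hx)
      ⟨b, hHL hb⟩ (show (⟨b, hHL hb⟩ : L) ∈ H.subgroupOf L from hb) rfl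
    exact h1
  obtain ⟨z, hz, hzy⟩ := hle hy
  have : z = y := X.subtype_injective hzy
  rw [← this]
  exact (CharInt.mem_charKernel _).mp hz

variable {Γ : Type u} [Group Γ] [Finite Γ] {O H : Subgroup Γ}

/-- On a coset of `d ∈ H` the extension is a signed invariant character of `C_O(d)`. -/
theorem exists_signed [Fintype Γ] [O.Normal] [Fintype O] (D : GlauCyclic.CopData O H)
    (hab : IsMulCommutative H) {χ : IrrCharacter O} {χh : IrrCharacter Γ}
    (h : GlauCyclic.Canon H χ χh) {d : Γ} (hd : d ∈ H)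
    [Fintype (O ⊓ centralizer ({d} : Set Γ) : Subgroup Γ)] :
    ∃ (β : IrrCharacter (O ⊓ centralizer ({d} : Set Γ) : Subgroup Γ)) (ε : ℤ),
      (ε = 1 ∨ ε = -1) ∧ GlauCyclic.Inv H β.1 ∧
        ∀ c : (O ⊓ centralizer ({d} : Set Γ) : Subgroup Γ),
          χh.1 ((c : Γ) * d) = (ε : ℂ) * β.1 c := by
  set C := O ⊓ centralizer ({d} : Set Γ)
  set S := zpowers d
  have hC : ∀ c, c ∈ C ↔ c ∈ O ∧ Commute c d := fun c => by
    rw [Subgroup.mem_inf, Subgroup.mem_centralizer_singleton_iff]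
    exact and_congr_right fun _ => Iff.rfl
  have hCS : ∀ c ∈ C, ∀ x ∈ S, Commute c x := fun c hc x hx => by
    obtain ⟨i, rfl⟩ := mem_zpowers_iff.1 hx
    exact ((hC c).1 hc).2.zpow_right i
  let y : S := ⟨d, mem_zpowers d⟩
  have hz : ∀ γ : IrrCharacter C, ∃ z : ℤ, GlauCyclic.coef S C χh.1 γ.1 y = (z : ℂ) := fun γ => by
    have hchar := GlauCyclic.isCharacter_coef hCS χh γ
    obtain ⟨q, hq⟩ := CharInt.exists_rat_of_forall_pow hchar y fun j hj => by
      show classInner (GlauCyclic.res C χh.1 ((y ^ j : S) : Γ)) γ.1 =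
        classInner (GlauCyclic.res C χh.1 (y : Γ)) γ.1
      congr 1
      funext c
      show χh.1 ((c : Γ) * ((y ^ j : S) : Γ)) = χh.1 ((c : Γ) * (y : Γ))
      rw [SubgroupClass.coe_pow]
      refine GlauCyclic.canon_apply_pow D h hd ?_ ((hC c).1 c.2).1 ((hC c).1 c.2).2
      rwa [← Subgroup.orderOf_coe] at hj
    have hint : IsIntegral ℤ q := by
      have h1 := CharInt.isIntegral_char hchar y
      rw [hq, ← eq_ratCast (algebraMap ℚ ℂ)] at h1
      exact (isIntegral_algebraMap_iff (algebraMap ℚ ℂ).injective).1 h1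
    obtain ⟨z, hz⟩ := IsIntegrallyClosed.isIntegral_iff.1 hint
    exact ⟨z, by rw [hq, ← hz]; simp⟩
  choose z hz using hz
  have hcl : IsClassFunction C (GlauCyclic.res C χh.1 d) :=
    GlauCyclic.isClassFunction_res (fun c hc => ((hC c).1 hc).2)
      (Char.IsCharacter.isClassFunction (Char.irr_isCharacter χh))
  have hsum : ∑ γ : IrrCharacter C, z γ * z γ = 1 := by
    have h1 := Char.classInner_eq_sum (f' := GlauCyclic.res C χh.1 d) hcl
    rw [GlauCyclic.classInner_res D hd hC h h, if_pos rfl] at h1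
    have h2 : ∀ γ : IrrCharacter C, classInner (GlauCyclic.res C χh.1 d) γ.1 *
        classInner γ.1 (GlauCyclic.res C χh.1 d) = ((z γ * z γ : ℤ) : ℂ) := fun γ => by
      rw [← Char.conj_classInner (GlauCyclic.res C χh.1 d) γ.1,
        show classInner (GlauCyclic.res C χh.1 d) γ.1 = (z γ : ℂ) from hz γ]
      simp
    simp only [h2] at h1
    exact_mod_cast h1.symm
  obtain ⟨β, hβ⟩ : ∃ β, z β ≠ 0 := by
    by_contra hall
    push Not at hall
    simp [hall] at hsum
  have hβ1 : z β * z β = 1 ∧ ∀ γ, γ ≠ β → z γ = 0 := by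
    rw [← Finset.add_sum_erase _ _ (Finset.mem_univ β)] at hsum
    have hpos : 0 ≤ ∑ γ ∈ Finset.univ.erase β, z γ * z γ :=
      Finset.sum_nonneg fun γ _ => mul_self_nonneg _
    have h1 : 0 < z β * z β := mul_self_pos.2 hβ
    refine ⟨by omega, fun γ hγ => ?_⟩
    have h2 := (Finset.sum_eq_zero_iff_of_nonneg fun γ _ => mul_self_nonneg (z γ)).1
      (show ∑ γ ∈ Finset.univ.erase β, z γ * z γ = 0 by omega) γ
      (Finset.mem_erase.2 ⟨hγ, Finset.mem_univ γ⟩)
    exact mul_self_eq_zero.1 h2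
  have hval : ∀ c : C, χh.1 ((c : Γ) * d) = (z β : ℂ) * β.1 c := fun c => by
    have h3 := congrFun (Char.eq_sum_classInner_smul hcl) c
    simp only [Finset.sum_apply, Pi.smul_apply, smul_eq_mul] at h3
    show GlauCyclic.res C χh.1 d c = _
    rw [h3, Finset.sum_eq_single β]
    · rw [show classInner (GlauCyclic.res C χh.1 d) β.1 = (z β : ℂ) from hz β]
    · intro γ _ hγ
      rw [show classInner (GlauCyclic.res C χh.1 d) γ.1 = (z γ : ℂ) from hz γ, hβ1.2 γ hγ]
      simp
    · exact fun hh => absurd (Finset.mem_univ β) hh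
  refine ⟨β, z β, Int.isUnit_iff.1 (IsUnit.of_mul_eq_one _ hβ1.1), fun t ht g g' he => ?_, hval⟩
  have h1 : χh.1 ((g' : Γ) * d) = χh.1 ((g : Γ) * d) := by
    rw [he, show t * (g : Γ) * t⁻¹ * d = t * ((g : Γ) * d) * t⁻¹ by
      rw [mul_assoc, mul_assoc, mul_assoc, mul_assoc,
        (show Commute t d from commute_of_mem hab ht hd).inv_left.eq],
      CharInt.char_conj_apply (Char.irr_isCharacter χh)]
  rw [hval, hval] at h1
  exact mul_left_cancel₀ (Int.cast_ne_zero.2 hβ) h1

theorem invTriv (hp2 : p ≠ 2) : ∀ n, InvTriv.{u} p n := by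
  intro n
  induction n using Nat.strong_induction_on with
  | _ n ih =>
  intro Γ _ _ O H hO htop hcop s hn χ hinv k x hx b hb hk
  haveI := Fintype.ofFinite Γ
  haveI := Fintype.ofFinite O
  have D : GlauCyclic.CopData O H := ⟨(coprime_card s.hp hcop).symm, htop⟩
  obtain ⟨χh, hcanon⟩ := GlauCyclic.exists_canon D hinv
  by_cases hbK : ∀ w ∈ O, Commute w b
  · have : k = 1 := Subtype.ext (by
      rw [hk, commutatorElement_eq_one_iff_mul_comm.2 (hbK x hx).eq]; rfl)
    rw [this]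
  push Not at hbK
  have hsup : H ⊔ O = ⊤ := by rwa [sup_comm]
  have hHN : H ≤ normalizer (O : Set Γ) := by rw [normalizer_eq_top]; exact le_top
  have hodd : ¬ p ∣ 2 := fun hd => hp2 ((Nat.prime_dvd_prime_iff_eq hpp.out Nat.prime_two).1 hd)
  -- the value at `d y` for `y ∈ [C_O(d), H]`
  have hconst : ∀ d ∈ H, (∃ w ∈ O, ¬ Commute w d) → χh.1 d ≠ 0 ∧
      ∀ y ∈ ⁅O ⊓ centralizer ({d} : Set Γ), H⁆, χh.1 (d * y) = χh.1 d := by
    intro d hd hnc
    set X := O ⊓ centralizer ({d} : Set Γ)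
    haveI := Fintype.ofFinite X
    obtain ⟨β, ε, hε, hβinv, hval⟩ := exists_signed D s.ab hcanon hd
    have hd1 : χh.1 d = (ε : ℂ) * β.1 1 := by simpa using hval 1
    refine ⟨?_, fun y hy => ?_⟩
    · rw [hd1, Char.apply_one_eq_degree]
      exact mul_ne_zero (by rcases hε with rfl | rfl <;> simp)
        (Nat.cast_ne_zero.2 (Char.degree_pos β).ne')
    · have hHX : H ≤ normalizer (X : Set Γ) := fun t ht =>
        inf_normalizer_le_normalizer_inf
          ⟨hHN ht, le_normalizer (mem_centralizer_of_mem s.ab hd ht)⟩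
      have hXcop : (Nat.card X).Coprime p := hcop.coprime_dvd_left (card_dvd_of_le inf_le_left)
      have hlt : Nat.card X < n := by
        rw [← hn]
        refine lt_of_le_of_ne (card_le_of_le inf_le_left) fun he => ?_
        obtain ⟨w, hw, hwd⟩ := hnc
        have hXO : X = O := Subgroup.eq_of_le_of_card_ge inf_le_left he.ge
        exact hwd (mem_centralizer_singleton_iff.1 ((hXO.ge hw) : w ∈ X).2)
      have hyX : y ∈ X := Coprime.commutator_le_left_of_le_normalizer hHX hy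
      have h1 := invTriv_sub (ih _ hlt) s hHX hXcop β hβinv ⟨y, hyX⟩ hy
      have h2 := hval ⟨y, hyX⟩
      rw [h1, ← hd1] at h2
      rw [← h2]
      exact congrArg χh.1 (mem_centralizer_singleton_iff.1 hyX.2).symm
  -- `χ(a)² = χ(1) χ(a²)`
  have hsq : ∀ a ∈ H, (∃ w ∈ O, ¬ Commute w (a * a)) →
      χh.1 a * χh.1 a = χh.1 1 * χh.1 (a * a) := by
    intro a ha hnc
    have hall : ∀ g : Γ, χh.1 (g * a * g⁻¹ * a) = χh.1 (a * a) := fun g => by
      have hna : s.nel g * a * (s.nel g)⁻¹ = a := by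
        refine mul_inv_eq_one.1 (eq_one_of_not_dvd s.hp (mul_mem (s.nel_conj_mem g ha) (inv_mem ha)) ?_)
        refine not_dvd_orderOf_of_mem hcop ?_
        obtain ⟨w, hw, t, ht, e⟩ := D.exists_eq_mul (s.nel g)
        rw [← e, show w * t * a * (w * t)⁻¹ * a⁻¹ = w * (a * w⁻¹ * a⁻¹) by
          rw [mul_assoc w t, commute_of_mem s.ab ht ha]; group]
        exact mul_mem hw (hO.conj_mem _ (inv_mem hw) a)
      have hzR := s.conj_mul_nel_mem g ha
      rw [hna] at hzR
      obtain ⟨o, -, y, hy, hya, e⟩ := s.exists_pPart (g := g) (mul_mem ha ha) hzR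
      have hRO : pc p (pair H g) ≤ O := fun r hr =>
        mem_of_not_dvd_of_mem_sup s.hp hHN hcop (hsup ▸ mem_top r)
          (not_dvd_orderOf_of_mem (coprime_card_pc _) hr)
      set d := a * a
      set Y := pc p (pair H g) ⊓ centralizer ({d} : Set Γ) with hYdef
      have hd : d ∈ H := mul_mem ha ha
      have hHY : H ≤ normalizer (Y : Set Γ) := fun t ht =>
        inf_normalizer_le_normalizer_inf
          ⟨s.le_normalizer_pc_pair g ht, le_normalizer (mem_centralizer_of_mem s.ab hd ht)⟩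
      have hyY : y ∈ Y := ⟨hy, mem_centralizer_singleton_iff.mpr hya.eq⟩
      obtain ⟨c, hc, m, hm, e'⟩ := Coprime.exists_centralizer_mul_commutator hHY
        (coprime_card s.hp ((coprime_card_pc _).coprime_dvd_left (card_dvd_of_le inf_le_left)))
        (Or.inl (isSolvable_of_comm s.ab)) hyY
      rw [s.eq_one_of_centralizer hc.1.1 hc.2, one_mul] at e'
      have hy2 : y ∈ ⁅O ⊓ centralizer ({d} : Set Γ), H⁆ :=
        e' ▸ commutator_mono (inf_le_inf_right _ hRO) le_rfl hm
      rw [← (hconst d hd hnc).2 y hy2, ← e, show g * a * g⁻¹ * a⁻¹ * d = g * a * g⁻¹ * a by simp only [d]; group,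
        show o⁻¹ * (g * a * g⁻¹ * a) * o = o⁻¹ * (g * a * g⁻¹ * a) * o⁻¹⁻¹ by rw [inv_inv],
        CharInt.char_conj_apply (Char.irr_isCharacter χh)]
    have h1 := Char.sum_irr_conj_mul χh.2 a a
    rw [Finset.sum_congr rfl (fun g _ => hall g), Finset.sum_const, Finset.card_univ, nsmul_eq_mul,
      ← Nat.card_eq_fintype_card] at h1
    refine mul_left_cancel₀ (Char.card_ne_zero (G := Γ)) ?_
    linear_combination -h1
  -- `|χ(b)| = χ(1)`
  have hordodd : Nat.Coprime 2 (orderOf b) := by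
    obtain ⟨i, hi⟩ := exists_orderOf_pow s.hp hb
    rw [hi]
    exact ((hpp.out.coprime_iff_not_dvd.2 hodd).symm).pow_right _
  have hnc2 : ∀ i : ℕ, ∃ w ∈ O, ¬ Commute w (b ^ 2 ^ i) := fun i => by
    obtain ⟨w, hw, hwb⟩ := hbK
    refine ⟨w, hw, fun hc => hwb ?_⟩
    obtain ⟨j, hj⟩ := exists_pow_eq_self_of_coprime (hordodd.pow_left i)
    rw [← hj]
    exact hc.pow_right j
  have hiter : ∀ i : ℕ, χh.1 (b ^ 2 ^ i) * χh.1 1 ^ (2 ^ i - 1) = χh.1 b ^ 2 ^ i := by
    intro i
    induction i with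
    | zero => simp
    | succ i ih' =>
      have hdbl : 2 ^ (i + 1) = 2 ^ i + 2 ^ i := by rw [pow_succ]; omega
      have h2 := hsq (b ^ 2 ^ i) (pow_mem hb _) (by
        rw [← pow_add, ← hdbl]; exact hnc2 (i + 1))
      rw [← pow_add] at h2
      have he : 2 ^ (i + 1) - 1 = (2 ^ i - 1) + (2 ^ i - 1) + 1 := by
        have := Nat.one_le_two_pow (n := i); rw [pow_succ]; omega
      rw [he, hdbl, pow_add (χh.1 b), ← ih', pow_succ, pow_add]
      rw [pow_add b] at h2
      linear_combination -(χh.1 1 ^ (2 ^ i - 1) * χh.1 1 ^ (2 ^ i - 1)) * h2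
  set N := Nat.totient (orderOf b)
  have hN : 0 < N := Nat.totient_pos.2 (orderOf_pos b)
  have hbN : b ^ 2 ^ N = b := by
    conv_rhs => rw [← pow_one b]
    exact pow_eq_pow_iff_modEq.2 (Nat.ModEq.pow_totient hordodd)
  have hkey := congrArg (fun t => ‖t‖) (hiter N)
  rw [hbN, norm_mul, norm_pow, norm_pow] at hkey
  have hne : χh.1 b ≠ 0 := (hconst b hb (by
    obtain ⟨w, hw, hwb⟩ := hbK; exact ⟨w, hw, hwb⟩)).1
  set M := 2 ^ N - 1 with hM
  have hM0 : M ≠ 0 := by
    have : 2 ≤ 2 ^ N := Nat.le_self_pow hN.ne' 2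
    omega
  have hM1 : 2 ^ N = M + 1 := by have := Nat.one_le_two_pow (n := N); omega
  rw [hM1, pow_succ, mul_comm, mul_comm (‖χh.1 b‖ ^ M)] at hkey
  have hnorm : ‖χh.1 b‖ = ‖χh.1 1‖ := by
    rw [mul_comm] at hkey
    exact ((pow_left_inj₀ (norm_nonneg _) (norm_nonneg _) hM0).1
      (mul_left_cancel₀ (norm_ne_zero_iff.2 hne) hkey)).symm
  obtain ⟨m, ρ, hρ, hχ⟩ := χh.2
  obtain ⟨cs, hcs⟩ := (CharInt.norm_character_eq_finrank_iff ρ b).1 (by
    rw [hχ, hnorm, ← hχ, Representation.char_one, Complex.norm_natCast])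
  have hker : ρ (k : Γ) = 1 := by
    have hcomm : ρ x * ρ b = ρ b * ρ x := by rw [hcs, mul_smul_comm, smul_mul_assoc, mul_one, one_mul]
    rw [hk, commutatorElement_def, map_mul, map_mul, map_mul, hcomm, mul_assoc (ρ b) (ρ x), ← map_mul ρ x,
      mul_inv_cancel, map_one, mul_one, ← map_mul, mul_inv_cancel, map_one]
  have h1 : χh.1 (k : Γ) = χh.1 1 := by
    rw [← hχ]
    simp [Representation.character, hker]
  rw [← hcanon.1 k, h1, ← hcanon.1 1]
  rfl

end Cfsg.Agent.ExtremelyClosedP
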