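import Cfsg.Agent.Lib.ExtremelyClosed.Odd.AllConj
import Cfsg.Agent.Lib.CharInt.Kazarin

/-!
# An extremely closed abelian `p`-subgroup, `p` odd, has `G = N(H) O_{p'}(G)`
-/

set_option linter.style.haveILetI false
set_option linter.unusedSectionVars false

namespace Cfsg.Agent.ExtremelyClosedP

open Cfsg Subgroup
open Cfsg.Agent.ExtremelyClosed (pair le_pair isSolvable_of_comm commute_of_mem
  mem_normalizer_of_map_le isExtremelyClosed_subgroupOf isExtremelyClosed_map isMulCommutative_map)
open scoped Classical Pointwise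

universe u

variable {G : Type u} [Group G] [Finite G] {H : Subgroup G} {p : ℕ} [hpp : Fact p.Prime]

/-- The conclusion, for groups of smaller order. -/
def Below (p n : ℕ) : Prop :=
  ∀ (G : Type u) [Group G] [Finite G], Nat.card G < n → ∀ H : Subgroup G, IsPGroup p H →
    IsMulCommutative H → IsExtremelyClosed H → normalizer (H : Set G) ⊔ pPrimeCore p G = ⊤

theorem ind_of_below (hB : Below.{u} p (Nat.card G)) (s : Setup p H) {X : Subgroup G} (hX : X ≠ ⊤)
    (hHX : H ≤ X) : ∀ x ∈ X, ∃ n ∈ normalizer (H : Set G), ∃ o ∈ pc p X, x = n * o := by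
  intro x hx
  haveI := s.ab
  have h := hB X (lt_of_le_of_ne (card_le_card_group X) fun h => hX ((card_eq_iff_eq_top _).mp h))
    (H.subgroupOf X) (s.hp.comap_of_injective X.subtype X.subtype_injective)
    ⟨⟨fun a b => Subtype.ext (Subtype.ext (commute_of_mem s.ab a.2 b.2))⟩⟩
    (isExtremelyClosed_subgroupOf s.cl hHX)
  obtain ⟨n, hn, o, ho, e⟩ := Subgroup.mem_sup_of_normal_right.mp
    (show (⟨x, hx⟩ : X) ∈ normalizer ((H.subgroupOf X : Subgroup X) : Set X) ⊔ pPrimeCore p X from
      h ▸ mem_top _)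
  refine ⟨n, mem_normalizer_of_map_le ?_, o, ⟨o, ho, rfl⟩, (congrArg Subtype.val e).symm⟩
  rintro _ ⟨a, ha, rfl⟩
  exact mem_subgroupOf.mp ((mem_normalizer_iff.1 hn ⟨a, hHX ha⟩).1 (mem_subgroupOf.mpr ha))

theorem sup_core_eq_top_step (s : Setup p H) (hB : Below.{u} p (Nat.card G))
    (hO : pPrimeCore p G ≠ ⊥) : normalizer (H : Set G) ⊔ pPrimeCore p G = ⊤ := by
  set O := pPrimeCore p G
  set f := QuotientGroup.mk' O
  have hcop : (Nat.card O).Coprime p := PCore.coprime_card_pPrimeCore
  have hHO : H ≤ normalizer (O : Set G) := by rw [Subgroup.normalizer_eq_top]; exact le_top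
  have hcm : (H.map f).comap f = H ⊔ O := by
    rw [Subgroup.comap_map_eq, QuotientGroup.ker_mk']
  have hcl' : IsExtremelyClosed (H.map f) := by
    refine isExtremelyClosed_map f (QuotientGroup.mk'_surjective O) fun g k hk hn => ?_
    obtain ⟨a, ha, r, hr, rfl⟩ :=
      (Coprime.mem_sup_iff_of_le_normalizer (s.le_normalizer_pc_pair g)).1 (s.pair_le g hk)
    have hr' : r ∈ O := s.mem_of_commutator_mem hr hHO hcop fun b hb => by
      have h1 : f r ∈ normalizer (H.map f : Set (G ⧸ O)) := by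
        have := mul_mem (inv_mem (le_normalizer (mem_map_of_mem f ha))) hn
        rwa [map_mul, inv_mul_cancel_left] at this
      have h2 : f (r⁻¹ * b * r * b⁻¹) ∈ H.map f := by
        rw [map_mul, map_mul, map_mul, map_inv, map_inv]
        refine mul_mem ?_ (inv_mem (mem_map_of_mem f hb))
        have h3 := (mem_normalizer_iff.1 (inv_mem h1) _).1 (mem_map_of_mem f hb)
        rwa [inv_inv] at h3
      exact hcm.le h2
    rw [map_mul, show f r = 1 from (QuotientGroup.eq_one_iff r).mpr hr', mul_one]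
    exact mem_map_of_mem f ha
  have hlt : Nat.card (G ⧸ O) < Nat.card G := by
    rw [O.card_eq_card_quotient_mul_card_subgroup]
    exact lt_mul_of_one_lt_right Nat.card_pos
      (lt_of_le_of_ne Nat.card_pos fun h => hO (Subgroup.card_eq_one.mp h.symm))
  have h := hB (G ⧸ O) hlt (H.map f) (s.hp.map f) (isMulCommutative_map f s.ab) hcl'
  have hO' : pPrimeCore p (G ⧸ O) = ⊥ := PCore.pPrimeCore_quotient_self_eq_bot
  rw [hO', sup_bot_eq] at h
  rw [eq_top_iff]
  intro g _
  have hle : H.map (MulAut.conj g).toMonoidHom ≤ H ⊔ O := by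
    rintro _ ⟨a, ha, rfl⟩
    refine hcm.le ?_
    rw [mem_comap]
    show f (g * a * g⁻¹) ∈ H.map f
    rw [map_mul, map_mul, map_inv]
    exact (mem_normalizer_iff.1 (show f g ∈ normalizer (H.map f : Set (G ⧸ O)) from h ▸ mem_top _)
      _).1 (mem_map_of_mem f ha)
  obtain ⟨o, ho, e⟩ := Coprime.exists_conj_eq_of_le_sup hHO hle
    (Subgroup.card_map_of_injective (MulEquiv.injective _)) (coprime_card s.hp hcop)
    (Or.inr (isSolvable_of_comm s.ab))
  have hn : o⁻¹ * g ∈ normalizer (H : Set G) := by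
    refine mem_normalizer_of_map_le ?_
    rintro _ ⟨a, ha, rfl⟩
    have h1 : MulAut.conj g a ∈ MulAut.conj o • H := e.ge ⟨a, ha, rfl⟩
    rw [Coprime.mem_conj_smul_iff] at h1
    show (o⁻¹ * g) * a * (o⁻¹ * g)⁻¹ ∈ H
    convert h1 using 1
    rw [MulAut.conj_apply]
    group
  simpa using mul_mem (mem_sup_right ho : o ∈ normalizer (H : Set G) ⊔ O) (mem_sup_left hn)

theorem not_mem_center (s : Setup p H) (hB : Below.{u} p (Nat.card G)) (hO : pPrimeCore p G = ⊥)
    (hnn : ¬ H.Normal) {a : G} (ha : a ∈ H) (hap : orderOf a = p) : a ∉ Subgroup.center G := by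
  intro hac
  set Z := zpowers a with hZ
  have hZc : Z ≤ Subgroup.center G := zpowers_le.mpr hac
  haveI : Z.Normal := ⟨fun b hb g => by
    rw [mem_center_iff.mp (hZc hb) g, mul_inv_cancel_right]; exact hb⟩
  have hZcard : Nat.card Z = p := by rw [hZ, Nat.card_zpowers, hap]
  set f := QuotientGroup.mk' Z
  have hcm : (H.map f).comap f = H := by
    rw [Subgroup.comap_map_eq, QuotientGroup.ker_mk', sup_eq_left.mpr (zpowers_le.mpr ha)]
  have hcl' : IsExtremelyClosed (H.map f) := by
    refine isExtremelyClosed_map f (QuotientGroup.mk'_surjective Z) fun g k hk hn => ?_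
    refine mem_map_of_mem f (s.inf_normalizer hk (mem_normalizer_of_map_le ?_))
    rintro _ ⟨b, hb, rfl⟩
    refine hcm.le ?_
    rw [mem_comap]
    show f (k * b * k⁻¹) ∈ H.map f
    rw [map_mul, map_mul, map_inv]
    exact (mem_normalizer_iff.1 hn _).1 (mem_map_of_mem f hb)
  have hlt : Nat.card (G ⧸ Z) < Nat.card G := by
    rw [Z.card_eq_card_quotient_mul_card_subgroup, hZcard]
    exact lt_mul_of_one_lt_right Nat.card_pos hpp.out.one_lt
  have h := hB (G ⧸ Z) hlt (H.map f) (s.hp.map f) (isMulCommutative_map f s.ab) hcl'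
  set P := (pPrimeCore p (G ⧸ Z)).comap f
  have hZP : Z ≤ P := fun z hz => by
    rw [mem_comap, show f z = 1 from (QuotientGroup.eq_one_iff z).mpr hz]
    exact one_mem _
  have hbot : pPrimeCore p (G ⧸ Z) = ⊥ := by
    set Z' := Z.subgroupOf P
    have hZ'card : Nat.card Z' = p := by
      rw [show Nat.card Z' = Nat.card Z from Nat.card_congr (subgroupOfEquivOfLe hZP).toEquiv, hZcard]
    let φ : P →* pPrimeCore p (G ⧸ Z) := (f.comp P.subtype).codRestrict _ fun x => x.2
    have hφs : Function.Surjective φ := by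
      rintro ⟨y, hy⟩
      obtain ⟨y, rfl⟩ := QuotientGroup.mk'_surjective Z y
      exact ⟨⟨y, hy⟩, rfl⟩
    have hker : φ.ker = Z' := by
      ext x
      rw [MonoidHom.mem_ker, Subtype.ext_iff, mem_subgroupOf]
      exact QuotientGroup.eq_one_iff _
    have hidx : Z'.index = Nat.card (pPrimeCore p (G ⧸ Z)) := by
      rw [← hker, index_ker, MonoidHom.range_eq_top.mpr hφs, card_top]
    have hcop : Z'.index.Coprime p := hidx ▸ PCore.coprime_card_pPrimeCore
    obtain ⟨K, hK⟩ := exists_right_complement'_of_coprime (N := Z') (hZ'card ▸ hcop.symm)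
    haveI : K.Normal := by
      rw [← normalizer_eq_top_iff, eq_top_iff, ← hK.sup_eq_top, sup_le_iff]
      refine ⟨fun z hz => mem_normalizer_iff.mpr fun b => ?_, le_normalizer⟩
      have hzb : z * b = b * z := Subtype.ext
        (mem_center_iff.mp (hZc (mem_subgroupOf.mp hz)) (b : G)).symm
      rw [hzb, mul_inv_cancel_right]
    have hKcop : (Nat.card K).Coprime p := by rw [← hK.symm.index_eq_card]; exact hcop
    have hKbot : K = ⊥ := le_bot_iff.mp ((PCore.le_pPrimeCore hKcop).trans
      (PCore.pPrimeCore_eq_bot_of_normal P hO).le)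
    rw [← Subgroup.card_eq_one, ← hidx, hK.symm.index_eq_card, hKbot, Subgroup.card_bot]
  rw [hbot, sup_bot_eq] at h
  refine hnn ⟨fun b hb g => hcm.le ?_⟩
  rw [mem_comap, map_mul, map_mul, map_inv]
  exact (mem_normalizer_iff.1 (show f g ∈ normalizer (H.map f : Set (G ⧸ Z)) from h ▸ mem_top _)
    _).1 (mem_map_of_mem f hb)

theorem MinCfg.false (c : MinCfg p H) (hp2 : p ≠ 2) : False := by
  haveI := Fintype.ofFinite H
  obtain ⟨M, hM⟩ := CharInt.exists_isPModular_of_prime hpp.out
  by_cases h : ∀ a ∈ H, a ≠ 1 → ∀ b ∈ H, b ≠ 1 → IsConj a b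
  · exact c.false_of_forall_isConj hM hp2 h
  · push Not at h
    obtain ⟨a, ha, ha1, b, hb, hb1, hne⟩ := h
    exact c.false_of_not_isConj hM ha ha1 hb hb1 hne

theorem main (hp2 : p ≠ 2) : ∀ (n : ℕ) (G : Type u) [Group G] [Finite G], Nat.card G = n →
    ∀ H : Subgroup G, IsPGroup p H → IsMulCommutative H → IsExtremelyClosed H →
      normalizer (H : Set G) ⊔ pPrimeCore p G = ⊤ := by
  intro n
  induction n using Nat.strong_induction_on with
  | _ n ih =>
  intro G _ _ hn H hH hab hcl
  have hB : Below.{u} p (Nat.card G) := fun G' _ _ hlt => ih _ (hn ▸ hlt) G' rfl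
  have s : Setup p H := ⟨hH, hab, hcl⟩
  by_cases hO : pPrimeCore p G = ⊥
  · by_contra hne
    have hnn : ¬ H.Normal := fun hn' =>
      hne (by haveI := hn'; rw [Subgroup.normalizer_eq_top, top_sup_eq])
    exact MinCfg.false ⟨s, fun X hX hHX => ind_of_below hB s hX hHX, hO, hnn,
      fun a ha hap => not_mem_center s hB hO hnn ha hap⟩ hp2
  · exact sup_core_eq_top_step s hB hO

theorem normalizer_sup_pPrimeCore_eq_top (hp2 : p ≠ 2) (H : Subgroup G) (hH : IsPGroup p H)
    (hab : IsMulCommutative H) (hcl : IsExtremelyClosed H) :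
    normalizer (H : Set G) ⊔ pPrimeCore p G = ⊤ :=
  main hp2 _ G rfl H hH hab hcl

end Cfsg.Agent.ExtremelyClosedP
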