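import Cfsg.Agent.Lib.ExtremelyClosed.Odd.Chars

/-!
# Not all nonidentity elements of `H` conjugate: contradiction

Then a nontrivial character with nonzero average over `H` vanishes on `H \ {1}`, so the principal
column at `a` has norm `|H| / |a^G ∩ H|`, which forces `H` Sylow and central in its normalizer.
-/

set_option linter.style.haveILetI false
set_option linter.unusedSectionVars false

namespace Cfsg.Agent.ExtremelyClosedP

open Cfsg Subgroup
open Cfsg.Agent.ExtremelyClosed (commute_of_mem bl mem_bl triv_mem_bl sumH sumH_trivial)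
open scoped ComplexConjugate Classical Pointwise

universe u

variable {G : Type u} [Group G] [Finite G] {H : Subgroup G} {p : ℕ} [hpp : Fact p.Prime]

namespace MinCfg

variable (c : MinCfg p H)
include c

theorem exists_central :
    ∃ T : Sylow p G, H ≤ (T : Subgroup G) ∧
      ∃ a ∈ H, a ≠ 1 ∧ (T : Subgroup G) ≤ centralizer ({a} : Set G) := by
  obtain ⟨T, hT⟩ := c.hp.exists_le_sylow
  have hTN := le_normalizer_of_isPGroup c.cl T.2 hT
  haveI : (H.subgroupOf (T : Subgroup G)).Normal :=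
    Coprime.normal_subgroupOf_of_le_normalizer hTN
  have hne : H.subgroupOf (T : Subgroup G) ≠ ⊥ := fun h => c.ne_bot <| by
    rw [← Subgroup.map_subgroupOf_eq_of_le hT, h, Subgroup.map_bot]
  obtain ⟨a, ha, ha1⟩ :=
    (Subgroup.bot_or_exists_ne_one _).resolve_left (PGroup.inf_center_ne_bot T.2 _ hne)
  refine ⟨T, hT, a, ha.1, fun h => ha1 (Subtype.ext h), fun x hx => ?_⟩
  exact mem_centralizer_singleton_iff.mpr
    (congrArg Subtype.val (mem_center_iff.mp ha.2 ⟨x, hx⟩))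

variable [Fintype H] {M : Ideal AlgInt} (hM : IsPModular p M)
include hM

theorem vanish {a₀ b₀ : G} (ha₀ : a₀ ∈ H) (ha₀1 : a₀ ≠ 1) (hb₀ : b₀ ∈ H) (hb₀1 : b₀ ≠ 1)
    (hne : ¬ IsConj a₀ b₀) {χ : IrrCharacter G} (hχ : χ ∈ bl M G)
    (hS : sumH H χ ≠ 0) (htriv : χ ≠ Char.trivialChar G) {d : G} (hd : d ∈ H) (hd1 : d ≠ 1) :
    χ.1 d = 0 := by
  haveI := Fintype.ofFinite G
  rw [c.eq_of_sumH_ne_zero hM hχ hS hd hd1 ha₀ ha₀1]
  have hb' : b₀⁻¹ ∈ H := inv_mem hb₀
  have hconst : ∀ g : G, χ.1 (g * a₀ * g⁻¹ * b₀⁻¹) = χ.1 a₀ := by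
    intro g
    set e := c.nel g * a₀ * (c.nel g)⁻¹
    have he1 : e * b₀⁻¹ ≠ 1 := fun h =>
      hne (isConj_iff.2 ⟨c.nel g, mul_inv_eq_one.1 h⟩)
    have hmem : e * b₀⁻¹ ∈ H := mul_mem (c.nel_conj_mem g ha₀) hb'
    rw [show g * a₀ * g⁻¹ * b₀⁻¹ = g * a₀ * g⁻¹ * e⁻¹ * (e * b₀⁻¹) by group,
      c.const hM (mem_bl.mp hχ) hmem he1 (c.conj_mul_nel_mem g ha₀),
      c.eq_of_sumH_ne_zero hM hχ hS hmem he1 ha₀ ha₀1]
  have h1 := Char.sum_irr_conj_mul χ.2 a₀ b₀⁻¹
  rw [Finset.sum_congr rfl (fun g _ => hconst g), Finset.sum_const, Finset.card_univ, nsmul_eq_mul,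
    ← Nat.card_eq_fintype_card,
    c.eq_of_sumH_ne_zero hM hχ hS hb' (inv_ne_one.mpr hb₀1) ha₀ ha₀1] at h1
  by_contra h0
  have h2 : χ.1 a₀ = χ.1 1 :=
    mul_left_cancel₀ (mul_ne_zero Char.card_ne_zero h0) (by linear_combination -h1)
  refine htriv (c.trivial_of_le_kernel fun x hx => ?_)
  by_cases hx1 : x = 1
  · rw [hx1]
  · rw [c.eq_of_sumH_ne_zero hM hχ hS hx hx1 ha₀ ha₀1, h2]

/-- The elements of `H` conjugate to an element centralized by a Sylow group. -/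
theorem fused_eq {a₀ b₀ : G} (ha₀ : a₀ ∈ H) (ha₀1 : a₀ ≠ 1) (hb₀ : b₀ ∈ H) (hb₀1 : b₀ ≠ 1)
    (hne : ¬ IsConj a₀ b₀) {T : Sylow p G} (hHT : H ≤ (T : Subgroup G)) {a : G} (ha : a ∈ H)
    (ha1 : a ≠ 1) (hTa : (T : Subgroup G) ≤ centralizer ({a} : Set G)) :
    (T : Subgroup G) = H ∧ ∀ b ∈ H, IsConj a b → b = a := by
  haveI := hM.2.1
  set Ω : Finset H := Finset.univ.filter fun b : H => IsConj a b
  obtain ⟨K, hdvd, hK⟩ := exists_column_norm hM (exists_orderOf_pow c.hp ha)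
  have h1 : ∑ χ ∈ bl M G, sumH H χ * conj (χ.1 a) = (Nat.card H : ℂ) := by
    rw [Finset.sum_eq_single (Char.trivialChar G)]
    · rw [sumH_trivial]; simp [Char.trivialChar]
    · intro χ hχ hne'
      by_cases hS : sumH H χ = 0
      · rw [hS, zero_mul]
      · rw [c.vanish hM ha₀ ha₀1 hb₀ hb₀1 hne hχ hS hne' ha ha1, map_zero, mul_zero]
    · exact fun h => absurd (haveI := hM.2.1; triv_mem_bl) h
  have hK' : ∑ χ ∈ bl M G, χ.1 a * conj (χ.1 a) = (K : ℂ) := by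
    rw [← hK, bl]
  have h2 : ∑ χ ∈ bl M G, sumH H χ * conj (χ.1 a) = (Ω.card : ℂ) * (K : ℂ) := by
    simp only [sumH, Finset.sum_mul]
    rw [Finset.sum_comm, Finset.sum_congr rfl (fun b _ => c.column hM ha ha1 b.2),
      ← Finset.sum_filter, Finset.sum_const, nsmul_eq_mul, hK']
  have h3 : Ω.card * K = Nat.card H := by exact_mod_cast h2.symm.trans h1
  have hle : Nat.card (T : Subgroup G) ≤ Nat.card (centralizer ({a} : Set G)) :=
    Nat.le_of_dvd Nat.card_pos (Subgroup.card_dvd_of_le hTa)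
  have hfac : (Nat.card G).factorization p ≤
      (Nat.card (centralizer ({a} : Set G))).factorization p := by
    refine (Nat.Prime.pow_dvd_iff_le_factorization hpp.out Nat.card_pos.ne').1 ?_
    rw [← T.card_eq_multiplicity]
    exact Subgroup.card_dvd_of_le hTa
  have hTK : Nat.card (T : Subgroup G) ∣ K := by
    rw [T.card_eq_multiplicity]
    exact (pow_dvd_pow p hfac).trans hdvd
  have hK0 : 0 < K := Nat.pos_of_ne_zero fun h => Nat.card_pos.ne' (by rw [← h3, h, mul_zero])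
  have hmem : (⟨a, ha⟩ : H) ∈ Ω := Finset.mem_filter.mpr ⟨Finset.mem_univ _, IsConj.refl a⟩
  have hΩ : 0 < Ω.card := Finset.card_pos.2 ⟨_, hmem⟩
  have hHK : Nat.card H ≤ K :=
    (Subgroup.card_le_of_le hHT).trans (Nat.le_of_dvd hK0 hTK)
  have hΩ1 : Ω.card = 1 := by nlinarith
  have hTH : Nat.card (T : Subgroup G) ≤ Nat.card H := by
    rw [← h3, hΩ1, one_mul]
    exact Nat.le_of_dvd hK0 hTK
  refine ⟨(Subgroup.eq_of_le_of_card_ge hHT hTH).symm, fun b hb hab => ?_⟩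
  obtain ⟨e, he⟩ := Finset.card_eq_one.mp hΩ1
  have e1 : (⟨b, hb⟩ : H) ∈ Ω := Finset.mem_filter.mpr ⟨Finset.mem_univ _, hab⟩
  rw [he, Finset.mem_singleton] at e1 hmem
  exact congrArg Subtype.val (e1.trans hmem.symm)

/-- Not all nonidentity elements of `H` conjugate: contradiction. -/
theorem false_of_not_isConj {a₀ b₀ : G} (ha₀ : a₀ ∈ H) (ha₀1 : a₀ ≠ 1) (hb₀ : b₀ ∈ H)
    (hb₀1 : b₀ ≠ 1) (hne : ¬ IsConj a₀ b₀) : False := by
  obtain ⟨T, hHT, a, ha, ha1, hTa⟩ := c.exists_central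
  have hTH := (c.fused_eq hM ha₀ ha₀1 hb₀ hb₀1 hne hHT ha ha1 hTa).1
  have hcent : normalizer ((T : Subgroup G) : Set G) ≤ centralizer ((T : Subgroup G) : Set G) := by
    rw [hTH]
    intro n hn
    rw [mem_centralizer_iff]
    intro b hb
    by_cases hb1 : b = 1
    · subst hb1; simp
    have hTb : (T : Subgroup G) ≤ centralizer ({b} : Set G) := by
      rw [hTH]
      exact fun x hx => mem_centralizer_singleton_iff.mpr (commute_of_mem c.ab hx hb)
    have := (c.fused_eq hM ha₀ ha₀1 hb₀ hb₀1 hne hHT hb hb1 hTb).2 (n * b * n⁻¹)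
      ((mem_normalizer_iff.1 hn b).1 hb) (isConj_iff.2 ⟨n, rfl⟩)
    exact (mul_inv_eq_iff_eq_mul.1 this).symm
  obtain ⟨N, hN', hNP⟩ := (Transfer.hasNormalPComplement_iff_exists T).mp
    (Transfer.hasNormalPComplement_of_normalizer_le_centralizer T hcent)
  have hN : N = ⊥ := le_bot_iff.mp ((PCore.le_pPrimeCore (hN := hN')
    (Transfer.coprime_card_of_isComplement'_sylow T hNP)).trans c.core.le)
  have htop := hNP.sup_eq_top
  rw [hN, bot_sup_eq, hTH] at htop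
  exact c.nn (htop ▸ inferInstance)

end MinCfg

end Cfsg.Agent.ExtremelyClosedP
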